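import Groth.Agent.Lib.EtSubtr4.LimRel
import Groth.Agent.Lib.EtSubtr4.Effective
import Groth.Agent.Lib.SubtrLim.Submersive
import Groth.Agent.Lib.LimDescend.Property
import Groth.Agent.Lib.LimSmooth.Affine
import Groth.Agent.Lib.LimDesc.Local

/-!
# Étale descent data along a limit of morphisms of finite presentation
-/

set_option autoImplicit false
set_option backward.isDefEq.respectTransparency false
set_option backward.isDefEq.respectTransparency.types false
set_option linter.style.haveILetI false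

universe u

open CategoryTheory CategoryTheory.Limits AlgebraicGeometry Desc

noncomputable section

namespace GrothLib.EtSubtr4

open GrothLib.SchEffective GrothLib.DDPull GrothLib.EtDescent21

/-- The right factor of a universally S-subtrusive composite is universally S-subtrusive. -/
theorem univSSubtrusive_of_comp {X Y S : Scheme.{u}} (h : X ⟶ Y) (g : Y ⟶ S)
    (hg : Subtr.UnivSSubtrusive (h ≫ g)) : Subtr.UnivSSubtrusive g := by
  intro Y' S' i₁ i₂ g' hp y y' hy
  obtain ⟨x, x', hx, h1, h2⟩ :=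
    hg (pullback.fst h i₁) i₂ (pullback.snd h i₁ ≫ g') ((IsPullback.of_hasPullback h i₁).paste_vert hp.flip).flip hy
  exact ⟨pullback.snd h i₁ x, pullback.snd h i₁ x', hx.map (pullback.snd h i₁).continuous,
    (Scheme.Hom.comp_apply _ _ _).symm.trans h1, (Scheme.Hom.comp_apply _ _ _).symm.trans h2⟩

variable {J : Type u} [SmallCategory J] [IsCofiltered J] {S : Scheme.{u}} [QuasiSeparatedSpace S]
  {A : OverDiag J S} (hA : IsLimit A.c)
  [∀ (i j : J) (φ : i ⟶ j), IsAffineHom (A.F.map φ)] [∀ i, CompactSpace (A.F.obj i)]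
  [∀ i, QuasiSeparatedSpace (A.F.obj i)] [∀ j, LocallyOfFinitePresentation (A.t.app j)]

include hA in
/-- An étale separated quasi-compact datum relative to a universally subtrusive limit is representable. -/
theorem etRep_id_of_limit [CompactSpace S] (hsub : Subtr.UnivSSubtrusive A.s) [QuasiCompact A.s]
    (D : SchDDFam (fam A.s)) [Etale (obj₀ D).hom] [IsSeparated (obj₀ D).hom] [QuasiCompact (obj₀ D).hom] :
    EtRep D (𝟙 S) := by
  let E' : SchDD A.s := (SchDDFam.toSchDD A.s).obj D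
  haveI : Etale E'.obj.hom := ‹Etale (obj₀ D).hom›
  haveI : IsSeparated E'.obj.hom := ‹IsSeparated (obj₀ D).hom›
  haveI : QuasiCompact E'.obj.hom := ‹QuasiCompact (obj₀ D).hom›
  obtain ⟨i₀, M, hM⟩ := GrothLib.LimDescend.exists_model_property A.F A.c hA @Etale
    (fun a b _ h => GrothLib.LimSmooth.etale_comp_openImmersion a b h)
    GrothLib.LimSmooth.affineCase_etale E'.obj.hom ‹Etale E'.obj.hom›
  haveI : Etale M.hom := hM
  haveI := GrothLib.LimDescend.compactSpace_model A.F A.c M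
  haveI := GrothLib.LimDescend.quasiSeparatedSpace_model A.F A.c M
  obtain ⟨j₁, hj₁⟩ := GrothLib.LimDesc.exists_isSeparated_of_compactSpace A.F hA M.hom (𝟙 (A.F.obj i₀))
    (IsPullback.of_id_fst (f := A.c.π.app i₀)).flip M.isPullback
  haveI hsep : IsSeparated (M.map A.F A.c j₁.hom).hom := by
    haveI := hj₁
    haveI : IsIso (pullback.snd (𝟙 (A.F.obj i₀)) (A.F.map j₁.hom)) := inferInstance
    have e := GrothLib.LimDesc.mapNat_snd A.F i₀ (𝟙 _) (M.hom ≫ 𝟙 _) M.hom rfl j₁
    have h : IsSeparated (pullback.snd (M.hom ≫ 𝟙 _) (A.F.map j₁.hom)) := by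
      rw [← e]
      exact (MorphismProperty.cancel_right_of_respectsIso @IsSeparated _ _).2 hj₁
    rw [Category.comp_id] at h
    exact h
  haveI : Etale (M.map A.F A.c j₁.hom).hom := inferInstanceAs (Etale (pullback.snd M.hom (A.F.map j₁.hom)))
  let M₁ := M.map A.F A.c j₁.hom
  haveI : Etale M₁.hom := ‹Etale (M.map A.F A.c j₁.hom).hom›
  haveI : IsSeparated M₁.hom := hsep
  haveI : CompactSpace M₁.obj := GrothLib.LimDescend.compactSpace_model A.F A.c M₁
  haveI : QuasiSeparatedSpace M₁.obj := GrothLib.LimDescend.quasiSeparatedSpace_model A.F A.c M₁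
  let j₀ := j₁.left
  let A' : OverDiag (Over j₀) S :=
    { F := Over.forget j₀ ⋙ A.F
      t := { app := fun j => A.t.app j.left, naturality := fun _ _ φ => A.t.naturality φ.left }
      c := A.c.whisker (Over.forget j₀)
      s := A.s
      hs := fun j => A.hs j.left }
  have hA' : IsLimit A'.c := (Functor.Initial.isLimitWhiskerEquiv (Over.forget j₀) A.c).symm hA
  let E : CartDiag A' :=
    { F := GrothLib.LimDesc.diag A.F j₀ M₁.hom
      μ := { app := fun j => pullback.snd M₁.hom (A.F.map j.hom)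
             naturality := fun _ _ φ => GrothLib.LimDesc.map_snd A.F j₀ M₁.hom φ }
      c := GrothLib.LimDesc.cone A.F j₀ M₁.hom M₁.isPullback
      e := E'.obj.hom
      sq := fun _ _ φ => GrothLib.LimDesc.isPullback_map A.F j₀ M₁.hom φ
      sqc := fun j => GrothLib.LimDesc.isPullback_snd A.F M₁.hom M₁.isPullback j }
  have hE : IsLimit E.c := GrothLib.LimDesc.isLimitCone A.F j₀ M₁.hom M₁.isPullback hA
  haveI : ∀ (i j : Over j₀) (φ : i ⟶ j), IsAffineHom (A'.F.map φ) := fun _ _ φ =>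
    ‹∀ (i j : J) (φ : i ⟶ j), IsAffineHom (A.F.map φ)› _ _ φ.left
  haveI : ∀ i, CompactSpace (A'.F.obj i) := fun i => ‹∀ i, CompactSpace (A.F.obj i)› i.left
  haveI : ∀ i, QuasiSeparatedSpace (A'.F.obj i) := fun i => ‹∀ i, QuasiSeparatedSpace (A.F.obj i)› i.left
  haveI : ∀ j, LocallyOfFinitePresentation (A'.t.app j) := fun j =>
    ‹∀ j, LocallyOfFinitePresentation (A.t.app j)› j.left
  haveI : ∀ i, CompactSpace (E.F.obj i) := fun i => GrothLib.LimDesc.compactSpace_obj A.F j₀ M₁.hom i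
  haveI : ∀ i, QuasiSeparatedSpace (E.F.obj i) := fun i =>
    GrothLib.LimDesc.quasiSeparatedSpace_obj A.F j₀ M₁.hom i
  haveI : ∀ j, LocallyOfFinitePresentation (E.μ.app j) := fun j =>
    MorphismProperty.pullback_snd M₁.hom (A.F.map j.hom) M₁.lfp
  obtain ⟨m, τ, hsnd, hself, hassoc, hπ⟩ := exists_stage_rel E hA' hE (relTgt E') (relTgt_hom E')
    (by
      have := comp_relTgt E' (pullback.lift (𝟙 E'.obj.left) E'.obj.hom (Category.id_comp _))
        (rfl : E'.obj.hom ≫ A.s = E'.obj.hom ≫ A.s) ⟨𝟙 _, Category.id_comp _⟩ (pullback.lift_fst _ _ _)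
        (pullback.lift_snd _ _ _)
      rw [E'.φ_self] at this
      exact this.symm)
    (fun {T} v x₁ x₂ h₁ h₂ h₃ => by
      have h₀₁ : (v ≫ E'.obj.hom) ≫ A.s = x₁ ≫ A.s := (Category.assoc _ _ _).trans h₁
      have h₀₂ : (v ≫ E'.obj.hom) ≫ A.s = x₂ ≫ A.s := (Category.assoc _ _ _).trans h₂
      have h₁₂ : x₁ ≫ A.s = x₂ ≫ A.s := h₀₁.symm.trans h₀₂
      let v₀ : Lifts E'.obj (v ≫ E'.obj.hom) := ⟨v, rfl⟩
      have k₁ := comp_relTgt E' (pullback.lift v x₁ h₁) h₀₁ v₀ (pullback.lift_fst _ _ _) (pullback.lift_snd _ _ _)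
      have k₂ := comp_relTgt E' (pullback.lift v x₂ h₂) h₀₂ v₀ (pullback.lift_fst _ _ _) (pullback.lift_snd _ _ _)
      have k₃ := comp_relTgt E' (pullback.lift (pullback.lift v x₁ h₁ ≫ relTgt E') x₂ h₃) h₁₂
        (E'.φ (v ≫ E'.obj.hom) x₁ h₀₁ v₀) (by rw [k₁]; exact pullback.lift_fst _ _ _) (pullback.lift_snd _ _ _)
      refine k₃.symm.trans (Eq.trans ?_ k₂)
      exact congrArg Subtype.val (E'.φ_comp (v ≫ E'.obj.hom) x₁ x₂ h₀₁ h₁₂ v₀))
  let gm : A'.F.obj m ⟶ S := A'.t.app m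
  let h : A.c.pt ⟶ A'.F.obj m := A'.c.π.app m
  have hw : h ≫ gm = A.s := A'.hs m
  haveI : LocallyOfFinitePresentation gm := ‹∀ j, LocallyOfFinitePresentation (A'.t.app j)› m
  haveI : CompactSpace (A'.F.obj m) := ‹∀ i, CompactSpace (A'.F.obj i)› m
  haveI : QuasiSeparatedSpace (A'.F.obj m) := ‹∀ i, QuasiSeparatedSpace (A'.F.obj i)› m
  haveI : QuasiCompact gm := quasiCompact_of_compactSpace _
  haveI : QuasiSeparated gm := inferInstance
  have hsub' : Subtr.UnivSSubtrusive gm := univSSubtrusive_of_comp h gm (by rw [hw]; exact hsub)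
  have hu' := GrothLib.SubtrLim.univSubmersive_of_univSSubtrusive hsub'
  have hu := GrothLib.SubtrLim.univSubmersive_of_univSSubtrusive hsub
  let Dm : SchDDFam (fam gm) :=
    (SchDDFam.ofSchDD gm).obj (ofRel (p := gm) (Over.mk (E.μ.app m)) τ hsnd hself hassoc)
  haveI : Etale (obj₀ Dm).hom :=
    inferInstanceAs (Etale (pullback.snd M₁.hom (A.F.map m.hom)))
  haveI : IsSeparated (obj₀ Dm).hom :=
    inferInstanceAs (IsSeparated (pullback.snd M₁.hom (A.F.map m.hom)))
  haveI : QuasiCompact (obj₀ Dm).hom :=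
    inferInstanceAs (QuasiCompact (pullback.snd M₁.hom (A.F.map m.hom)))
  have hrep := (etRep_refine_iff hw hu).2 ((effEtS_iff_etSRep_id hu').1
    (effEtS_of_univSSubtrusive_fp (D := Dm) hsub' hu')).etRep
  have sqm : IsPullback (E.c.π.app m) E'.obj.hom (E.μ.app m) h := E.sqc m
  let ε : pullback (E.μ.app m) h ≅ E'.obj.left := sqm.isoPullback.symm
  have ε₁ : ε.hom ≫ E.c.π.app m = pullback.fst _ _ := sqm.isoPullback_inv_fst
  have ε₂ : ε.hom ≫ E'.obj.hom = pullback.snd _ _ := sqm.isoPullback_inv_snd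
  let iso : refineDD hw Dm ≅ D := DDPull.isoMk (fun _ => Over.isoMk ε ε₂) fun T i j x₀ x₁ hx v w hv => by
    change (E'.φ x₀ x₁ hx w).1 = _ ≫ ε.hom
    change w.1 = v.1 ≫ ε.hom at hv
    obtain ⟨l, hl₁, hl₂, hl₃⟩ := exists_lift_rel E' hx w
    have hh : (x₀ ≫ h) ≫ gm = (x₁ ≫ h) ≫ gm := by rw [Category.assoc, Category.assoc, hw, hx]
    let v₂ : Lifts (Dm.obj PUnit.unit) (x₀ ≫ h) := liftsPullbackEquiv (Dm.obj PUnit.unit) h x₀ v
    let r := (liftsPullbackEquiv (Dm.obj PUnit.unit) h x₁).symm (Dm.φ (x₀ ≫ h) (x₁ ≫ h) hh v₂)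
    change (E'.φ x₀ x₁ hx w).1 = r.1 ≫ ε.hom
    refine sqm.hom_ext ?_ ?_
    · have hr : r.1 ≫ pullback.fst (E.μ.app m) h = (Dm.φ (x₀ ≫ h) (x₁ ≫ h) hh v₂).1 := pullback.lift_fst _ _ _
      have hl : l ≫ E.relPi m = pullback.lift v₂.1 (x₁ ≫ h) (rel_w (Over.mk (E.μ.app m)) hh v₂) := by
        apply pullback.hom_ext
        · refine (Category.assoc _ _ _).trans ((congrArg (l ≫ ·) (E.relPi_fst m)).trans ?_)
          refine (Category.assoc _ _ _).symm.trans ((congrArg (· ≫ E.c.π.app m) hl₁).trans ?_)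
          refine Eq.trans ?_ (pullback.lift_fst _ _ _).symm
          exact (congrArg (· ≫ E.c.π.app m) hv).trans ((Category.assoc _ _ _).trans (congrArg (v.1 ≫ ·) ε₁))
        · refine (Category.assoc _ _ _).trans ((congrArg (l ≫ ·) (E.relPi_snd m)).trans ?_)
          refine (Category.assoc _ _ _).symm.trans ((congrArg (· ≫ h) hl₂).trans ?_)
          exact (pullback.lift_snd _ _ _).symm
      refine (congrArg (· ≫ E.c.π.app m) hl₃).trans ?_
      refine (Category.assoc _ _ _).trans ((congrArg (l ≫ ·) hπ.symm).trans ?_)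
      refine (Category.assoc _ _ _).symm.trans ((congrArg (· ≫ τ) hl).trans ?_)
      exact Eq.trans hr.symm ((congrArg (r.1 ≫ ·) ε₁).symm.trans (Category.assoc _ _ _).symm)
    · rw [Category.assoc, ε₂]
      exact (E'.φ x₀ x₁ hx w).2.trans r.2.symm
  exact (effEt_iff_etRep_id hu).1 (effEt_of_iso iso ((effEt_iff_etRep_id hu).2 hrep))

end GrothLib.EtSubtr4
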