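import Groth.Agent.Lib.SchEffective.Rel

/-!
# Descent data from a relation morphism
-/

set_option autoImplicit false
set_option backward.isDefEq.respectTransparency false
set_option backward.isDefEq.respectTransparency.types false

universe u

open CategoryTheory CategoryTheory.Limits AlgebraicGeometry Desc

noncomputable section

namespace GrothLib.EtSubtr4

variable {X S : Scheme.{u}} {p : X ⟶ S} (Z : Over X) (τ : pullback (Z.hom ≫ p) p ⟶ Z.left)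
  (hsnd : τ ≫ Z.hom = pullback.snd (Z.hom ≫ p) p)
  (hself : pullback.lift (𝟙 Z.left) Z.hom (Category.id_comp _) ≫ τ = 𝟙 Z.left)
  (hassoc : ∀ {T : Scheme.{u}} (v : T ⟶ Z.left) (x₁ x₂ : T ⟶ X) (h₁ : v ≫ Z.hom ≫ p = x₁ ≫ p)
    (h₂ : v ≫ Z.hom ≫ p = x₂ ≫ p) (h₃ : (pullback.lift v x₁ h₁ ≫ τ) ≫ Z.hom ≫ p = x₂ ≫ p),
    pullback.lift (pullback.lift v x₁ h₁ ≫ τ) x₂ h₃ ≫ τ = pullback.lift v x₂ h₂ ≫ τ)

theorem rel_w {T : Scheme.{u}} {x₀ x₁ : T ⟶ X} (h : x₀ ≫ p = x₁ ≫ p) (v : Lifts Z x₀) :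
    v.1 ≫ Z.hom ≫ p = x₁ ≫ p := by
  rw [← Category.assoc, v.2, h]

/-- The transport of points along a relation morphism. -/
def relPt {T : Scheme.{u}} {x₀ x₁ : T ⟶ X} (h : x₀ ≫ p = x₁ ≫ p) (v : Lifts Z x₀) : Lifts Z x₁ :=
  ⟨pullback.lift v.1 x₁ (rel_w Z h v) ≫ τ, by rw [Category.assoc, hsnd, pullback.lift_snd]⟩

include hself in
theorem relPt_self {T : Scheme.{u}} (x : T ⟶ X) (v : Lifts Z x) : relPt Z τ hsnd (rfl : x ≫ p = x ≫ p) v = v := by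
  refine Subtype.ext ?_
  change pullback.lift v.1 x _ ≫ τ = v.1
  have e : pullback.lift v.1 x (rel_w Z (rfl : x ≫ p = x ≫ p) v) =
      v.1 ≫ pullback.lift (𝟙 Z.left) Z.hom (Category.id_comp _) := by
    apply pullback.hom_ext <;> simp [v.2]
  rw [e, Category.assoc, hself, Category.comp_id]

include hassoc in
theorem relPt_comp {T : Scheme.{u}} {x₀ x₁ x₂ : T ⟶ X} (h₀₁ : x₀ ≫ p = x₁ ≫ p) (h₁₂ : x₁ ≫ p = x₂ ≫ p)
    (v : Lifts Z x₀) :
    relPt Z τ hsnd h₁₂ (relPt Z τ hsnd h₀₁ v) = relPt Z τ hsnd (h₀₁.trans h₁₂) v :=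
  Subtype.ext (hassoc v.1 x₁ x₂ _ _ _)

/-- The descent datum of a relation morphism. -/
@[simps obj]
def ofRel : SchDD p where
  obj := Z
  φ T x₀ x₁ h :=
    { toFun := relPt Z τ hsnd h
      invFun := relPt Z τ hsnd h.symm
      left_inv := fun v => (relPt_comp Z τ hsnd hassoc h h.symm v).trans (relPt_self Z τ hsnd hself x₀ v)
      right_inv := fun v => (relPt_comp Z τ hsnd hassoc h.symm h v).trans (relPt_self Z τ hsnd hself x₁ v) }
  φ_natural T T' k x₀ x₁ h h' v v' hv := by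
    change pullback.lift v'.1 _ _ ≫ τ = k ≫ pullback.lift v.1 x₁ _ ≫ τ
    rw [← Category.assoc]
    congr 1
    apply pullback.hom_ext <;> simp [hv]
  φ_self T x v := relPt_self Z τ hsnd hself x v
  φ_comp T x₀ x₁ x₂ h₀₁ h₁₂ v := relPt_comp Z τ hsnd hassoc h₀₁ h₁₂ v

theorem ofRel_φ {T : Scheme.{u}} (x₀ x₁ : T ⟶ X) (h : x₀ ≫ p = x₁ ≫ p) (v : Lifts Z x₀) :
    ((ofRel Z τ hsnd hself hassoc).φ x₀ x₁ h v).1 = pullback.lift v.1 x₁ (rel_w Z h v) ≫ τ := rfl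

end GrothLib.EtSubtr4
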