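import Groth.Agent.Lib.EtSubtr4.ProdDiag
import Groth.Agent.Lib.EtSubtr4.OfRel

/-!
# Relation morphisms descend to a stage of a limit
-/

set_option autoImplicit false
set_option backward.isDefEq.respectTransparency false
set_option backward.isDefEq.respectTransparency.types false
set_option linter.style.haveILetI false

universe u

open CategoryTheory CategoryTheory.Limits AlgebraicGeometry

noncomputable section

namespace GrothLib.EtSubtr4

variable {J : Type u} [SmallCategory J] {S : Scheme.{u}}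

/-- A cartesian diagram over a diagram over `S`. -/
structure CartDiag (A : OverDiag J S) where
  /-- the diagram -/
  F : J ⥤ Scheme.{u}
  /-- the structure maps -/
  μ : F ⟶ A.F
  /-- the cone -/
  c : Cone F
  /-- the structure map of the apex -/
  e : c.pt ⟶ A.c.pt
  sq : ∀ ⦃i j : J⦄ (φ : i ⟶ j), IsPullback (F.map φ) (μ.app i) (μ.app j) (A.F.map φ)
  sqc : ∀ j, IsPullback (c.π.app j) e (μ.app j) (A.c.π.app j)

/-- The underlying diagram over `S`. -/
@[simps F c s]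
def CartDiag.toOver {A : OverDiag J S} (E : CartDiag A) : OverDiag J S where
  F := E.F
  t := E.μ ≫ A.t
  c := E.c
  s := E.e ≫ A.s
  hs j := by
    change E.c.π.app j ≫ E.μ.app j ≫ A.t.app j = _
    rw [(E.sqc j).w_assoc, A.hs]

variable {A : OverDiag J S} (E : CartDiag A)

/-- The relation scheme at a stage. -/
abbrev CartDiag.relObj (j : J) : Scheme.{u} := pullback (E.μ.app j ≫ A.t.app j) (A.t.app j)

theorem CartDiag.w_t {i j : J} (φ : i ⟶ j) :
    E.F.map φ ≫ E.μ.app j ≫ A.t.app j = E.μ.app i ≫ A.t.app i :=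
  E.toOver.t_nat φ

/-- The transition maps of the relation schemes. -/
abbrev CartDiag.relMap {i j : J} (φ : i ⟶ j) : E.relObj i ⟶ E.relObj j := OverDiag.prodMap E.toOver A φ

theorem CartDiag.relMap_fst {i j : J} (φ : i ⟶ j) :
    E.relMap φ ≫ pullback.fst _ _ = pullback.fst _ _ ≫ E.F.map φ :=
  OverDiag.prodMap_fst E.toOver A φ

theorem CartDiag.relMap_snd {i j : J} (φ : i ⟶ j) :
    E.relMap φ ≫ pullback.snd _ _ = pullback.snd _ _ ≫ A.F.map φ :=
  OverDiag.prodMap_snd E.toOver A φ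

/-- The projections to the relation schemes. -/
abbrev CartDiag.relPi (j : J) : pullback (E.e ≫ A.s) A.s ⟶ E.relObj j := (E.toOver.prod A).c.π.app j

theorem CartDiag.relPi_fst (j : J) : E.relPi j ≫ pullback.fst _ _ = pullback.fst _ _ ≫ E.c.π.app j :=
  OverDiag.prod_π_fst E.toOver A j

theorem CartDiag.relPi_snd (j : J) : E.relPi j ≫ pullback.snd _ _ = pullback.snd _ _ ≫ A.c.π.app j :=
  OverDiag.prod_π_snd E.toOver A j

theorem CartDiag.relPi_map {i j : J} (φ : i ⟶ j) : E.relPi i ≫ E.relMap φ = E.relPi j :=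
  (E.toOver.prod A).c.w φ

/-- The double relation schemes. -/
abbrev CartDiag.triObj (j : J) : Scheme.{u} :=
  pullback (pullback.fst (E.μ.app j ≫ A.t.app j) (A.t.app j) ≫ E.μ.app j ≫ A.t.app j) (A.t.app j)

/-- The transition maps of the double relation schemes. -/
abbrev CartDiag.triMap {i j : J} (φ : i ⟶ j) : E.triObj i ⟶ E.triObj j := OverDiag.prodMap (E.toOver.prod A) A φ

theorem CartDiag.triMap_fst {i j : J} (φ : i ⟶ j) :
    E.triMap φ ≫ pullback.fst _ _ = pullback.fst _ _ ≫ E.relMap φ :=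
  OverDiag.prodMap_fst (E.toOver.prod A) A φ

theorem CartDiag.triMap_snd {i j : J} (φ : i ⟶ j) :
    E.triMap φ ≫ pullback.snd _ _ = pullback.snd _ _ ≫ A.F.map φ :=
  OverDiag.prodMap_snd (E.toOver.prod A) A φ

theorem CartDiag.triMap_comp {i j k : J} (φ : i ⟶ j) (ψ : j ⟶ k) :
    E.triMap (φ ≫ ψ) = E.triMap φ ≫ E.triMap ψ :=
  ((E.toOver.prod A).prod A).F.map_comp φ ψ

/-- The projections to the double relation schemes. -/
abbrev CartDiag.triPi (j : J) :
    pullback (pullback.fst (E.e ≫ A.s) A.s ≫ E.e ≫ A.s) A.s ⟶ E.triObj j :=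
  ((E.toOver.prod A).prod A).c.π.app j

theorem CartDiag.triPi_fst (j : J) : E.triPi j ≫ pullback.fst _ _ = pullback.fst _ _ ≫ E.relPi j :=
  OverDiag.prod_π_fst (E.toOver.prod A) A j

theorem CartDiag.triPi_snd (j : J) : E.triPi j ≫ pullback.snd _ _ = pullback.snd _ _ ≫ A.c.π.app j :=
  OverDiag.prod_π_snd (E.toOver.prod A) A j

variable [IsCofiltered J] (hA : IsLimit A.c) (hE : IsLimit E.c) [QuasiSeparatedSpace S]
  [∀ (i j : J) (φ : i ⟶ j), IsAffineHom (A.F.map φ)] [∀ i, CompactSpace (A.F.obj i)]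
  [∀ i, QuasiSeparatedSpace (A.F.obj i)] [∀ i, CompactSpace (E.F.obj i)]
  [∀ i, QuasiSeparatedSpace (E.F.obj i)] [∀ j, LocallyOfFinitePresentation (A.t.app j)]
  [∀ j, LocallyOfFinitePresentation (E.μ.app j)]

include hA hE in
/-- A relation morphism with its identities descends to a stage. -/
theorem exists_stage_rel (τ : pullback (E.e ≫ A.s) A.s ⟶ E.c.pt)
    (hsnd : τ ≫ E.e = pullback.snd (E.e ≫ A.s) A.s)
    (hself : pullback.lift (𝟙 E.c.pt) E.e (Category.id_comp _) ≫ τ = 𝟙 E.c.pt)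
    (hassoc : ∀ {T : Scheme.{u}} (v : T ⟶ E.c.pt) (x₁ x₂ : T ⟶ A.c.pt) (h₁ : v ≫ E.e ≫ A.s = x₁ ≫ A.s)
      (h₂ : v ≫ E.e ≫ A.s = x₂ ≫ A.s) (h₃ : (pullback.lift v x₁ h₁ ≫ τ) ≫ E.e ≫ A.s = x₂ ≫ A.s),
      pullback.lift (pullback.lift v x₁ h₁ ≫ τ) x₂ h₃ ≫ τ = pullback.lift v x₂ h₂ ≫ τ) :
    ∃ (m : J) (τm : E.relObj m ⟶ E.F.obj m),
      τm ≫ E.μ.app m = pullback.snd _ _ ∧
      pullback.lift (𝟙 (E.F.obj m)) (E.μ.app m) (Category.id_comp _) ≫ τm = 𝟙 _ ∧
      (∀ {T : Scheme.{u}} (v : T ⟶ E.F.obj m) (x₁ x₂ : T ⟶ A.F.obj m)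
        (h₁ : v ≫ E.μ.app m ≫ A.t.app m = x₁ ≫ A.t.app m) (h₂ : v ≫ E.μ.app m ≫ A.t.app m = x₂ ≫ A.t.app m)
        (h₃ : (pullback.lift v x₁ h₁ ≫ τm) ≫ E.μ.app m ≫ A.t.app m = x₂ ≫ A.t.app m),
        pullback.lift (pullback.lift v x₁ h₁ ≫ τm) x₂ h₃ ≫ τm = pullback.lift v x₂ h₂ ≫ τm) ∧
      E.relPi m ≫ τm = τ ≫ E.c.π.app m := by
  let B := E.toOver
  let R := B.prod A
  let U := R.prod A
  haveI : ∀ (i j : J) (φ : i ⟶ j), IsAffineHom (B.F.map φ) := fun i j φ =>
    MorphismProperty.of_isPullback (P := @IsAffineHom) (E.sq φ).flip (‹∀ (i j : J) (φ : i ⟶ j), IsAffineHom (A.F.map φ)› i j φ)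
  haveI : ∀ i, CompactSpace (B.F.obj i) := ‹∀ i, CompactSpace (E.F.obj i)›
  haveI : ∀ i, QuasiSeparatedSpace (B.F.obj i) := ‹∀ i, QuasiSeparatedSpace (E.F.obj i)›
  haveI : ∀ {i j : J} (φ : i ⟶ j), IsAffineHom (R.F.map φ) := fun {i j} φ =>
    OverDiag.isAffineHom_prodMap B A i j φ
  haveI : ∀ (i j : J) (φ : i ⟶ j), IsAffineHom (R.F.map φ) := fun i j φ => inferInstance
  haveI : ∀ i, CompactSpace (R.F.obj i) := fun i => OverDiag.compactSpace_prod B A i
  haveI : ∀ i, QuasiSeparatedSpace (R.F.obj i) := fun i => OverDiag.quasiSeparatedSpace_prod B A i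
  haveI : ∀ {i j : J} (φ : i ⟶ j), IsAffineHom (U.F.map φ) := fun {i j} φ =>
    OverDiag.isAffineHom_prodMap R A i j φ
  haveI : ∀ i, CompactSpace (U.F.obj i) := fun i => OverDiag.compactSpace_prod R A i
  haveI : ∀ {i j : J} (φ : i ⟶ j), IsAffineHom (B.F.map φ) := fun {i j} φ => inferInstance
  have hB : IsLimit B.c := hE
  have hR : IsLimit R.c := OverDiag.isLimitProd B A hB hA
  have hU : IsLimit U.c := OverDiag.isLimitProd R A hR hA
  haveI hlfp : ∀ j, LocallyOfFinitePresentation (B.t.app j) := fun j =>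
    inferInstanceAs (LocallyOfFinitePresentation (E.μ.app j ≫ A.t.app j))
  obtain ⟨i₀⟩ := IsCofiltered.nonempty (C := J)
  -- a first morphism over `S`
  have hτs : τ ≫ E.e ≫ A.s = pullback.fst (E.e ≫ A.s) A.s ≫ E.e ≫ A.s := by
    rw [← Category.assoc, hsnd, ← pullback.condition]
  obtain ⟨k₀, g₀, hg₀, hg₀'⟩ := Scheme.exists_π_app_comp_eq_of_locallyOfFinitePresentation
    R.F R.t (B.t.app i₀) R.c hR (τ ≫ E.c.π.app i₀) (by
      ext j : 2
      refine (R.hs j).trans (hτs.symm.trans ?_)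
      change τ ≫ E.e ≫ A.s = (τ ≫ E.c.π.app i₀) ≫ B.t.app i₀
      rw [Category.assoc]
      exact congrArg (τ ≫ ·) (B.hs i₀).symm)
  -- align the index
  let k := IsCofiltered.min k₀ i₀
  let φ₀ : k ⟶ k₀ := IsCofiltered.minToLeft _ _
  let ψ₀ : k ⟶ i₀ := IsCofiltered.minToRight _ _
  let g : E.relObj k ⟶ E.F.obj i₀ := E.relMap φ₀ ≫ g₀
  have hgπ : E.relPi k ≫ g = τ ≫ E.c.π.app i₀ := by
    rw [← Category.assoc, E.relPi_map]; exact hg₀
  have hgt : g ≫ E.μ.app i₀ ≫ A.t.app i₀ = pullback.fst _ _ ≫ E.μ.app k ≫ A.t.app k := by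
    refine (Category.assoc _ _ _).trans ?_
    refine (congrArg (E.relMap φ₀ ≫ ·) (show g₀ ≫ E.μ.app i₀ ≫ A.t.app i₀ = R.t.app k₀ from hg₀')).trans ?_
    exact R.t_nat φ₀
  obtain ⟨l, φ₁, h₁⟩ := Scheme.exists_hom_comp_eq_comp_of_locallyOfFiniteType R.F R.t (A.t.app i₀) R.c hR
    (i := k) (g ≫ E.μ.app i₀) (pullback.snd (E.μ.app k ≫ A.t.app k) (A.t.app k) ≫ A.F.map ψ₀)
    (hgt.symm.trans (Category.assoc _ _ _).symm)
    ((pullback.condition (f := E.μ.app k ≫ A.t.app k) (g := A.t.app k)).trans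
      ((congrArg (_ ≫ ·) (A.t_nat ψ₀).symm).trans (Category.assoc _ _ _).symm))
    (by
      change E.relPi k ≫ g ≫ E.μ.app i₀ = E.relPi k ≫ pullback.snd _ _ ≫ A.F.map ψ₀
      rw [reassoc_of% hgπ, reassoc_of% (E.relPi_snd k), (E.sqc i₀).w, ← Category.assoc, hsnd, A.c.w])
  have hl : (E.relMap φ₁ ≫ g) ≫ E.μ.app i₀ = pullback.snd _ _ ≫ A.F.map (φ₁ ≫ ψ₀) := by
    refine (Category.assoc _ _ _).trans (Eq.trans h₁ ?_)
    rw [A.F.map_comp, ← Category.assoc, ← Category.assoc]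
    exact congrArg (· ≫ A.F.map ψ₀) (E.relMap_snd φ₁)
  let τl : E.relObj l ⟶ E.F.obj l := (E.sq (φ₁ ≫ ψ₀)).lift (E.relMap φ₁ ≫ g) (pullback.snd _ _) hl
  have τl₁ : τl ≫ E.F.map (φ₁ ≫ ψ₀) = E.relMap φ₁ ≫ g := IsPullback.lift_fst _ _ _ _
  have τl₂ : τl ≫ E.μ.app l = pullback.snd _ _ := IsPullback.lift_snd _ _ _ _
  have hτl : E.relPi l ≫ τl = τ ≫ E.c.π.app l := by
    refine (E.sq (φ₁ ≫ ψ₀)).hom_ext ?_ ?_
    · rw [Category.assoc, τl₁, ← Category.assoc, E.relPi_map, Category.assoc, E.c.w, hgπ]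
    · rw [Category.assoc, τl₂, Category.assoc, (E.sqc l).w, ← Category.assoc, hsnd, E.relPi_snd]
  -- the identity axiom
  let δl : E.F.obj l ⟶ E.relObj l := pullback.lift (𝟙 _) (E.μ.app l) (Category.id_comp _)
  have hδ : (δl ≫ τl) ≫ E.μ.app l ≫ A.t.app l = E.μ.app l ≫ A.t.app l := by
    rw [Category.assoc, ← Category.assoc τl, τl₂, ← Category.assoc]
    exact congrArg (· ≫ A.t.app l) (pullback.lift_snd _ _ _)
  obtain ⟨m₁, φ₂, h₂⟩ := Scheme.exists_hom_comp_eq_comp_of_locallyOfFiniteType B.F B.t (B.t.app l) B.c hB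
    (i := l) (δl ≫ τl) (𝟙 _) hδ.symm (Category.id_comp _).symm (by
      have e : E.c.π.app l ≫ δl = pullback.lift (𝟙 E.c.pt) E.e (Category.id_comp _) ≫ E.relPi l := by
        apply pullback.hom_ext
        · rw [Category.assoc, pullback.lift_fst, Category.comp_id, Category.assoc, E.relPi_fst,
            pullback.lift_fst_assoc]
          exact (Category.id_comp _).symm
        · rw [Category.assoc, pullback.lift_snd, Category.assoc, E.relPi_snd, pullback.lift_snd_assoc]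
          exact (E.sqc l).w
      change E.c.π.app l ≫ δl ≫ τl = E.c.π.app l ≫ 𝟙 _
      rw [← Category.assoc, e, Category.assoc, hτl, ← Category.assoc, hself]
      exact (Category.id_comp (E.c.π.app l)).trans (Category.comp_id _).symm)
  -- the associativity axiom
  let v₁ : E.triObj l ⟶ E.relObj l := pullback.fst _ _
  let x₂ : E.triObj l ⟶ A.F.obj l := pullback.snd _ _
  have hc : v₁ ≫ pullback.fst _ _ ≫ E.μ.app l ≫ A.t.app l = x₂ ≫ A.t.app l := pullback.condition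
  have hc' : (v₁ ≫ τl) ≫ E.μ.app l ≫ A.t.app l = x₂ ≫ A.t.app l := by
    rw [Category.assoc, ← Category.assoc τl, τl₂, ← pullback.condition]
    exact hc
  let q₁ : E.triObj l ⟶ E.relObj l := pullback.lift (v₁ ≫ τl) x₂ hc'
  let q₂ : E.triObj l ⟶ E.relObj l := pullback.lift (v₁ ≫ pullback.fst _ _) x₂ ((Category.assoc _ _ _).trans hc)
  have hover : ∀ (q : E.triObj l ⟶ E.relObj l), q ≫ pullback.snd _ _ = x₂ →
      v₁ ≫ pullback.fst _ _ ≫ E.μ.app l ≫ A.t.app l = (q ≫ τl) ≫ E.μ.app l ≫ A.t.app l := fun q hq => by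
    rw [Category.assoc, ← Category.assoc τl, τl₂, ← Category.assoc q, hq]
    exact hc
  obtain ⟨m₂, φ₃, h₃⟩ := Scheme.exists_hom_comp_eq_comp_of_locallyOfFiniteType U.F U.t (B.t.app l) U.c hU
    (i := l) (q₁ ≫ τl) (q₂ ≫ τl) (hover q₁ (pullback.lift_snd _ _ _)) (hover q₂ (pullback.lift_snd _ _ _)) (by
      change E.triPi l ≫ q₁ ≫ τl = E.triPi l ≫ q₂ ≫ τl
      let w : pullback (pullback.fst (E.e ≫ A.s) A.s ≫ E.e ≫ A.s) A.s ⟶ pullback (E.e ≫ A.s) A.s := pullback.fst _ _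
      let y : pullback (pullback.fst (E.e ≫ A.s) A.s ≫ E.e ≫ A.s) A.s ⟶ A.c.pt := pullback.snd _ _
      have hw : (w ≫ pullback.fst _ _) ≫ E.e ≫ A.s = y ≫ A.s := (Category.assoc _ _ _).trans pullback.condition
      have hw' : (w ≫ τ) ≫ E.e ≫ A.s = y ≫ A.s := by
        rw [Category.assoc, hτs]; exact pullback.condition
      have f₁ : E.triPi l ≫ q₁ = pullback.lift (w ≫ τ) y hw' ≫ E.relPi l := by
        apply pullback.hom_ext
        · rw [Category.assoc, pullback.lift_fst, Category.assoc, E.relPi_fst, pullback.lift_fst_assoc,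
            reassoc_of% (E.triPi_fst l), hτl, Category.assoc]
        · rw [Category.assoc, pullback.lift_snd, Category.assoc, E.relPi_snd, pullback.lift_snd_assoc]
          exact E.triPi_snd l
      have f₂ : E.triPi l ≫ q₂ = pullback.lift (w ≫ pullback.fst _ _) y hw ≫ E.relPi l := by
        apply pullback.hom_ext
        · rw [Category.assoc, pullback.lift_fst, Category.assoc, E.relPi_fst, pullback.lift_fst_assoc,
            reassoc_of% (E.triPi_fst l), E.relPi_fst, Category.assoc]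
        · rw [Category.assoc, pullback.lift_snd, Category.assoc, E.relPi_snd, pullback.lift_snd_assoc]
          exact E.triPi_snd l
      rw [reassoc_of% f₁, reassoc_of% f₂, hτl]
      refine (Category.assoc _ _ _).symm.trans (Eq.trans (congrArg (· ≫ E.c.π.app l) ?_) (Category.assoc _ _ _))
      have hh₁ : (w ≫ pullback.fst (E.e ≫ A.s) A.s) ≫ E.e ≫ A.s = (w ≫ pullback.snd (E.e ≫ A.s) A.s) ≫ A.s :=
        (Category.assoc _ _ _).trans ((congrArg (w ≫ ·) pullback.condition).trans (Category.assoc _ _ _).symm)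
      have hp : pullback.lift (w ≫ pullback.fst _ _) (w ≫ pullback.snd _ _) hh₁ = w := by
        apply pullback.hom_ext <;> simp
      have := hassoc (w ≫ pullback.fst _ _) (w ≫ pullback.snd _ _) y hh₁ hw (by rw [hp]; exact hw')
      simp only [hp] at this
      exact this)
  obtain ⟨m, ψ₁, ψ₂, hψ⟩ := IsCofiltered.cospan φ₂ φ₃
  let φ := ψ₁ ≫ φ₂
  have hτ₀ : (E.relMap φ ≫ τl) ≫ E.μ.app l = pullback.snd _ _ ≫ A.F.map φ := by
    rw [Category.assoc, τl₂]; exact E.relMap_snd φ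
  let τm : E.relObj m ⟶ E.F.obj m := (E.sq φ).lift (E.relMap φ ≫ τl) (pullback.snd _ _) hτ₀
  have τm₁ : τm ≫ E.F.map φ = E.relMap φ ≫ τl := IsPullback.lift_fst _ _ _ _
  have τm₂ : τm ≫ E.μ.app m = pullback.snd _ _ := IsPullback.lift_snd _ _ _ _
  refine ⟨m, τm, τm₂, ?_, fun {T} v x₁ y h₁' h₂' h₃' => ?_, ?_⟩
  · refine (E.sq φ).hom_ext ?_ ?_
    · have e : pullback.lift (𝟙 (E.F.obj m)) (E.μ.app m) (Category.id_comp _) ≫ E.relMap φ =
          E.F.map φ ≫ δl := by
        apply pullback.hom_ext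
        · rw [Category.assoc, E.relMap_fst, pullback.lift_fst_assoc, Category.id_comp, Category.assoc,
            pullback.lift_fst]
          exact (Category.comp_id _).symm
        · rw [Category.assoc, E.relMap_snd, pullback.lift_snd_assoc, Category.assoc, pullback.lift_snd]
          exact (E.sq φ).w.symm
      have e₂ : E.F.map φ₂ ≫ δl ≫ τl = E.F.map φ₂ := h₂.trans (Category.comp_id _)
      rw [Category.assoc, τm₁, ← Category.assoc, e, Category.id_comp, Category.assoc]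
      simp only [φ, E.F.map_comp, Category.assoc, e₂]
    · rw [Category.assoc, τm₂, pullback.lift_snd, Category.id_comp]
  · let w : T ⟶ E.triObj m := pullback.lift (pullback.lift v x₁ h₁') y (by
      rw [pullback.lift_fst_assoc]; exact h₂')
    have h₃'' : E.triMap φ₃ ≫ q₁ ≫ τl = E.triMap φ₃ ≫ q₂ ≫ τl := h₃
    have e₃ : w ≫ E.triMap φ ≫ q₁ ≫ τl = w ≫ E.triMap φ ≫ q₂ ≫ τl := by
      simp only [φ, hψ, E.triMap_comp, Category.assoc, h₃'']
    have c₁ : pullback.lift (pullback.lift v x₁ h₁' ≫ τm) y h₃' ≫ E.relMap φ = w ≫ E.triMap φ ≫ q₁ := by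
      apply pullback.hom_ext
      · rw [Category.assoc, E.relMap_fst, pullback.lift_fst_assoc, Category.assoc, Category.assoc,
          Category.assoc, pullback.lift_fst, reassoc_of% (E.triMap_fst φ), pullback.lift_fst_assoc, τm₁]
      · rw [Category.assoc, E.relMap_snd, pullback.lift_snd_assoc, Category.assoc, Category.assoc,
          pullback.lift_snd, E.triMap_snd, pullback.lift_snd_assoc]
    have c₂ : pullback.lift v y h₂' ≫ E.relMap φ = w ≫ E.triMap φ ≫ q₂ := by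
      apply pullback.hom_ext
      · rw [Category.assoc, E.relMap_fst, pullback.lift_fst_assoc, Category.assoc, Category.assoc,
          pullback.lift_fst, reassoc_of% (E.triMap_fst φ), pullback.lift_fst_assoc, E.relMap_fst,
          pullback.lift_fst_assoc]
      · rw [Category.assoc, E.relMap_snd, pullback.lift_snd_assoc, Category.assoc, Category.assoc,
          pullback.lift_snd, E.triMap_snd, pullback.lift_snd_assoc]
    refine (E.sq φ).hom_ext ?_ ?_
    · rw [Category.assoc, τm₁, Category.assoc, τm₁, reassoc_of% c₁, reassoc_of% c₂, e₃]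
    · simp only [Category.assoc, τm₂, pullback.lift_snd]
  · refine (E.sq φ).hom_ext ?_ ?_
    · rw [Category.assoc, τm₁, ← Category.assoc, E.relPi_map, hτl, Category.assoc, E.c.w]
    · rw [Category.assoc, τm₂, Category.assoc, (E.sqc m).w, ← Category.assoc, hsnd, E.relPi_snd]

end GrothLib.EtSubtr4
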