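import Groth.Agent.Lib.EtSubtr4.Sub
import Groth.Agent.Lib.SchEffective.Rel
import Groth.Agent.Lib.NoethTop.Spectral

/-!
# Effectivity without quasi-compactness of the datum along universally closed morphisms
-/

set_option autoImplicit false
set_option backward.isDefEq.respectTransparency false
set_option backward.isDefEq.respectTransparency.types false
set_option linter.style.haveILetI false

universe u

open CategoryTheory CategoryTheory.Limits AlgebraicGeometry Desc Topology

noncomputable section

namespace GrothLib.EtSubtr4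

open GrothLib.SchEffective GrothLib.DDPull GrothLib.EtDescent21

/-- Constructible sets of quasi-compact quasi-separated schemes are quasi-compact. -/
theorem isCompact_of_isConstructible {V : Scheme.{u}} [CompactSpace V] [QuasiSeparatedSpace V] {s : Set V}
    (hs : IsConstructible s) : IsCompact s := by
  haveI : SpectralSpace V := {}
  exact SpecSp.isCompact_of_isClosed_cons (Constr.isClosed_constructibleTopology_of_isConstructible hs)

/-- Surjective universally closed morphisms are universally S-subtrusive. -/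
theorem univSSubtrusive_of_universallyClosed {X S : Scheme.{u}} (g : X ⟶ S) [UniversallyClosed g]
    [Surjective g] : Subtr.UnivSSubtrusive g := fun _ _ _ _ g' h => by
  haveI : UniversallyClosed g' := MorphismProperty.of_isPullback h.flip ‹UniversallyClosed g›
  haveI : Surjective g' := MorphismProperty.of_isPullback h.flip ‹Surjective g›
  intro y y' hy
  obtain ⟨x', hx'⟩ := g'.surjective y'
  obtain ⟨x, hx, hxy⟩ := g'.isClosedMap.specializingMap (show g' x' ⤳ y by rw [hx']; exact hy)
  exact ⟨x, x', hx, hxy, hx'⟩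

variable {S X : Scheme.{u}} {p : X ⟶ S}

/-- Every point of the datum lies in a saturated quasi-compact open. -/
theorem exists_saturated_compact_open [UniversallyClosed p] [LocallyOfFinitePresentation p] [QuasiCompact p]
    [QuasiSeparated p] (E : SchDD p) [QuasiSeparatedSpace E.obj.left] (d : E.obj.left) :
    ∃ W : E.obj.left.Opens, d ∈ W ∧ IsSaturated E (W : Set E.obj.left) ∧ IsCompact (W : Set E.obj.left) := by
  haveI : UniversallyClosed (relSrc E) := MorphismProperty.pullback_fst _ _ ‹UniversallyClosed p›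
  haveI : LocallyOfFinitePresentation (relSrc E) := MorphismProperty.pullback_fst _ _ ‹LocallyOfFinitePresentation p›
  haveI : QuasiCompact (relSrc E) := MorphismProperty.pullback_fst _ _ ‹QuasiCompact p›
  haveI : QuasiSeparated (relSrc E) := MorphismProperty.pullback_fst _ _ ‹QuasiSeparated p›
  haveI : QuasiCompact (relTgt E) := relTgt_mem E @QuasiCompact ‹_›
  haveI : QuasiSeparatedSpace (relScheme E) := quasiSeparatedSpace_of_quasiSeparated (relSrc E)
  -- a quasi-compact open neighbourhood of the orbit
  have hO : IsCompact (relTgt E '' (relSrc E ⁻¹' {d})) :=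
    ((relSrc E).isCompact_preimage_singleton d).image (relTgt E).continuous
  have hV' : ∃ V : E.obj.left.Opens, relTgt E '' (relSrc E ⁻¹' {d}) ⊆ V ∧ IsCompact (V : Set E.obj.left) := by
    obtain ⟨t, ht⟩ := hO.elim_finite_subcover (fun W : E.obj.left.affineOpens => (W.1 : Set E.obj.left))
      (fun W => W.1.2) fun z _ => by
        obtain ⟨_, ⟨W, hW, rfl⟩, hz, -⟩ :=
          E.obj.left.isBasis_affineOpens.exists_subset_of_mem_open (Set.mem_univ z) isOpen_univ
        exact Set.mem_iUnion.2 ⟨⟨W, hW⟩, hz⟩
    exact ⟨⟨⋃ W ∈ t, (W.1 : Set E.obj.left), isOpen_biUnion fun W _ => W.1.2⟩, ht,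
      t.isCompact_biUnion fun W _ => W.2.isCompact⟩
  obtain ⟨V, hOV, hV⟩ := hV'
  have hclosed : IsClosed (relSrc E '' (relTgt E ⁻¹' (V : Set E.obj.left)ᶜ)) :=
    (relSrc E).isClosedMap _ (V.2.isClosed_compl.preimage (relTgt E).continuous)
  refine ⟨⟨satCore E V, hclosed.isOpen_compl⟩, ?_, isSaturated_satCore E _, ?_⟩
  · rintro ⟨w, hw, hwd⟩
    exact hw (hOV ⟨w, hwd, rfl⟩)
  haveI : CompactSpace (V : Scheme.{u}) := isCompact_iff_compactSpace.mp hV
  haveI : QuasiSeparatedSpace (V : Scheme.{u}) := quasiSeparatedSpace_of_quasiSeparated V.ι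
  let U := relSrc E ⁻¹ᵁ V
  have hU : IsCompact (U : Set (relScheme E)) := (relSrc E).isCompact_preimage hV
  haveI : CompactSpace (U : Scheme.{u}) := isCompact_iff_compactSpace.mp hU
  haveI : QuasiSeparatedSpace (U : Scheme.{u}) := quasiSeparatedSpace_of_quasiSeparated U.ι
  have hT : IsCompact ((relSrc E ⁻¹ᵁ V ⊓ relTgt E ⁻¹ᵁ V : (relScheme E).Opens) : Set (relScheme E)) :=
    hU.inter_of_isOpen ((relTgt E).isCompact_preimage hV) U.2 (relTgt E ⁻¹ᵁ V).2
  have hA : IsCompact ((U.ι ⁻¹ᵁ relTgt E ⁻¹ᵁ V : (U : Scheme.{u}).Opens) : Set (U : Scheme.{u})) := by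
    rw [U.ι.isOpenEmbedding.isEmbedding.isCompact_iff]
    convert hT using 1
    ext z
    constructor
    · rintro ⟨z, hz, rfl⟩; exact ⟨z.2, hz⟩
    · rintro ⟨h1, h2⟩; exact ⟨⟨z, h1⟩, h2, rfl⟩
  let f : (U : Scheme.{u}) ⟶ (V : Scheme.{u}) := relSrc E ∣_ V
  haveI : QuasiCompact f := MorphismProperty.of_isPullback (isPullback_morphismRestrict (relSrc E) V).flip
    (inferInstanceAs (QuasiCompact (relSrc E)))
  haveI : LocallyOfFinitePresentation f := MorphismProperty.of_isPullback
    (isPullback_morphismRestrict (relSrc E) V).flip (inferInstanceAs (LocallyOfFinitePresentation (relSrc E)))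
  have hK := isCompact_of_isConstructible
    (f.isConstructible_image (hA.isConstructible (U.ι ⁻¹ᵁ relTgt E ⁻¹ᵁ V).2).compl).compl
  have hf : ∀ z : U, (f z).1 = relSrc E z.1 := fun z => by
    have e : (f ≫ V.ι) z = (U.ι ≫ relSrc E) z := congrArg (fun k => k z) (morphismRestrict_ι (relSrc E) V)
    rw [Scheme.Hom.comp_apply, Scheme.Hom.comp_apply] at e
    exact e
  convert hK.image V.ι.continuous using 1
  ext z
  constructor
  · intro hz
    refine ⟨⟨z, satCore_subset E _ hz⟩, ?_, rfl⟩
    rintro ⟨w, hw, e⟩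
    exact hz ⟨w.1, hw, (hf w).symm.trans (congrArg Subtype.val e)⟩
  · rintro ⟨v, hv, rfl⟩ ⟨w, hw, e⟩
    have hwU : w ∈ U := by
      change relSrc E w ∈ V
      rw [e]; exact v.2
    exact hv ⟨⟨w, hwU⟩, hw, Subtype.ext ((hf ⟨w, hwU⟩).trans e)⟩

variable {g : X ⟶ S}

/-- Over an affine base a separated étale datum along a universally closed surjection is representable. -/
theorem etRep_id_of_universallyClosed_affine [IsAffine S] [UniversallyClosed g] [Surjective g]
    [LocallyOfFinitePresentation g] [QuasiCompact g] [QuasiSeparated g]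
    (D : SchDDFam (fam g)) [Etale (obj₀ D).hom] [IsSeparated (obj₀ D).hom] : EtRep D (𝟙 S) := by
  have hu := univSubmersive_of_universallyClosed g
  let E : SchDD g := (SchDDFam.toSchDD g).obj D
  haveI : IsSeparated E.obj.hom := ‹IsSeparated (obj₀ D).hom›
  haveI : Etale E.obj.hom := ‹Etale (obj₀ D).hom›
  haveI : QuasiSeparatedSpace X := quasiSeparatedSpace_of_quasiSeparated g
  haveI : CompactSpace X := QuasiCompact.compactSpace_of_compactSpace g
  haveI : QuasiSeparatedSpace E.obj.left := quasiSeparatedSpace_of_quasiSeparated E.obj.hom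
  choose W hdW hW hWc using exists_saturated_compact_open (p := g) E
  choose E' j hj hr _ he' using fun d => exists_restrict E (W d) (hW d)
  refine etRep_id_of_openSubData g hu (fun d : E.obj.left => (SchDDFam.ofSchDD g).obj (E' d))
    (fun d => (SchDDFam.ofSchDD g).map (j d)) hj (fun v => ⟨v, ?_⟩) fun d => ?_
  · change v ∈ Set.range (j v).hom.left
    rw [hr]; exact hdW v
  haveI : IsOpenImmersion (j d).hom.left := hj d
  have hw : (E' d).obj.hom = (j d).hom.left ≫ E.obj.hom := (Over.w (j d).hom).symm
  let F := (SchDDFam.ofSchDD g).obj (E' d)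
  haveI : Etale (obj₀ F).hom := show Etale (E' d).obj.hom by rw [hw]; infer_instance
  haveI : IsSeparated (obj₀ F).hom := show IsSeparated (E' d).obj.hom by rw [hw]; infer_instance
  haveI : CompactSpace (E' d).obj.left := by
    rw [← isCompact_univ_iff, (j d).hom.left.isOpenEmbedding.isEmbedding.isCompact_iff, Set.image_univ, hr]
    exact hWc d
  haveI : QuasiCompact (obj₀ F).hom := show QuasiCompact (E' d).obj.hom from
    quasiCompact_of_compactSpace _
  obtain ⟨M, μ, m, h₁, -, -, hm⟩ := (effEtS_iff hu).1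
    (effEtS_of_univSSubtrusive_fp (D := F) (univSSubtrusive_of_universallyClosed g) hu)
  exact ⟨M, μ, m, h₁, hm⟩

end GrothLib.EtSubtr4
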