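import Groth.Agent.Lib.EtSubtr4.NonQC

/-!
# Globalisation over an arbitrary base
-/

set_option autoImplicit false
set_option backward.isDefEq.respectTransparency false
set_option backward.isDefEq.respectTransparency.types false
set_option linter.style.haveILetI false

universe u

open CategoryTheory CategoryTheory.Limits AlgebraicGeometry Desc

namespace GrothLib.EtSubtr4

open GrothLib.SchEffective GrothLib.DDPull GrothLib.EtDescent21

variable {S X : Scheme.{u}} {g : X ⟶ S}

/-- A separated étale datum along a universally closed surjection of finite presentation is representable. -/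
theorem etRep_id_of_universallyClosed [UniversallyClosed g] [Surjective g]
    [LocallyOfFinitePresentation g] [QuasiCompact g] [QuasiSeparated g]
    (D : SchDDFam (fam g)) [Etale (obj₀ D).hom] [IsSeparated (obj₀ D).hom] : EtRep D (𝟙 S) := by
  refine etRep_of_openCover (fun W : {W : S.Opens // IsAffineOpen W} => W.1)
    (TopologicalSpace.IsOpenCover.mk (eq_top_iff.2 fun s _ => ?_)) fun W => ?_
  · obtain ⟨_, ⟨W, hW, rfl⟩, hsW, -⟩ := S.isBasis_affineOpens.exists_subset_of_mem_open (Set.mem_univ s) isOpen_univ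
    exact TopologicalSpace.Opens.mem_iSup.2 ⟨⟨W, hW⟩, hsW⟩
  rw [Category.comp_id]
  haveI : IsAffine (W.1 : Scheme.{u}) := W.2
  have sq : IsPullback (pullback.fst g W.1.ι) (pullback.snd g W.1.ι) g W.1.ι := IsPullback.of_hasPullback _ _
  haveI : Surjective (pullback.snd g W.1.ι) := MorphismProperty.pullback_snd _ _ ‹Surjective g›
  haveI : UniversallyClosed (pullback.snd g W.1.ι) := MorphismProperty.pullback_snd _ _ ‹UniversallyClosed g›
  haveI : Etale (obj₀ (pullCart sq D)).hom :=
    inferInstanceAs (Etale (pullback.snd (obj₀ D).hom (pullback.fst g W.1.ι)))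
  haveI : IsSeparated (obj₀ (pullCart sq D)).hom :=
    inferInstanceAs (IsSeparated (pullback.snd (obj₀ D).hom (pullback.fst g W.1.ι)))
  exact (etRep_trans_iff sq (Category.id_comp _)).1 (etRep_id_of_universallyClosed_affine (pullCart sq D))

/-- A separated datum descends to a separated scheme. -/
theorem isSeparated_of_iso (hg : SGA1.UnivSubmersive g) {D : SchDDFam (fam g)} [IsSeparated (obj₀ D).hom]
    (U : Over S) (e : (toDDFam (fam g)).obj U ≅ D) : IsSeparated U.hom := by
  let i₀ : PUnit.{u + 1} := PUnit.unit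
  haveI : IsIso (e.hom.hom i₀).left := ⟨(e.inv.hom i₀).left,
    by rw [← Over.comp_left, ← SchDDFam.comp_hom, e.hom_inv_id]; rfl,
    by rw [← Over.comp_left, ← SchDDFam.comp_hom, e.inv_hom_id]; rfl⟩
  haveI : IsSeparated (pullback.fst g U.hom) := by
    rw [show pullback.fst g U.hom = (e.hom.hom i₀).left ≫ (D.obj i₀).hom from (Over.w (e.hom.hom i₀)).symm]
    exact (MorphismProperty.cancel_left_of_respectsIso @IsSeparated _ _).2 ‹IsSeparated (obj₀ D).hom›
  exact SGA1Sub21.isSeparated_of_isPullback (IsPullback.of_hasPullback g U.hom) hg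

/-- Translation to the datum of one morphism. -/
theorem exists_descended_sep (hg : SGA1.UnivSubmersive g) (D : SchDD g) [IsSeparated D.obj.hom]
    (h : EtRep ((SchDDFam.ofSchDD g).obj D : SchDDFam (fam g)) (𝟙 S)) :
    ∃ U : Over S, IsSeparated U.hom ∧ Etale U.hom ∧ Nonempty ((toDD g).obj U ≅ D) := by
  obtain ⟨U, hU, ⟨e⟩⟩ := (effEt_iff_etRep_id hg).2 h
  haveI : IsSeparated (obj₀ ((SchDDFam.ofSchDD g).obj D : SchDDFam (fam g))).hom := ‹IsSeparated D.obj.hom›
  exact ⟨U, isSeparated_of_iso hg U e, hU, ⟨(SchDDFam.toSchDD g).mapIso e⟩⟩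

end GrothLib.EtSubtr4
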