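import Groth.Agent.Lib.EtSubtr4.NonQCGlobal
import Groth.Agent.Lib.SubtrLim.Submersive

/-!
# Effectivity without quasi-compactness along universally subtrusive morphisms
-/

set_option autoImplicit false
set_option backward.isDefEq.respectTransparency false
set_option backward.isDefEq.respectTransparency.types false
set_option linter.style.haveILetI false

universe u

open CategoryTheory CategoryTheory.Limits AlgebraicGeometry Desc

noncomputable section

namespace GrothLib.EtSubtr4

open GrothLib.SchEffective GrothLib.DDPull GrothLib.EtDescent21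

variable {S X : Scheme.{u}} {g : X ⟶ S} {D : SchDDFam (fam g)}

/-- Where `g` has a section a separated étale datum is representable. -/
theorem etRep_of_section' [Etale (obj₀ D).hom] [IsSeparated (obj₀ D).hom] {W : Scheme.{u}} {q : W ⟶ S}
    (σ : W ⟶ X) (hσ : σ ≫ g = q) : EtRep D q := by
  have sq : IsPullback (pullback.fst g q) (pullback.snd g q) g q := IsPullback.of_hasPullback g q
  refine (etRep_trans_iff sq (Category.id_comp q)).1 ?_
  let s : W ⟶ pullback g q := pullback.lift σ (𝟙 W) (by rw [hσ, Category.id_comp])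
  have hs : s ≫ pullback.snd g q = 𝟙 W := pullback.lift_snd _ _ _
  haveI : Etale (obj₀ (pullCart sq D)).hom :=
    inferInstanceAs (Etale (pullback.snd (obj₀ D).hom (pullback.fst g q)))
  haveI : IsSeparated (obj₀ (pullCart sq D)).hom :=
    inferInstanceAs (IsSeparated (pullback.snd (obj₀ D).hom (pullback.fst g q)))
  let D' := refineDD hs (pullCart sq D)
  haveI : Etale (obj₀ D').hom := inferInstanceAs (Etale (pullback.snd (obj₀ (pullCart sq D)).hom s))
  haveI : IsSeparated (obj₀ D').hom := inferInstanceAs (IsSeparated (pullback.snd (obj₀ (pullCart sq D)).hom s))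
  have hid : SGA1.UnivSubmersive (𝟙 W) := univSubmersive_of_universallyClosed (𝟙 W)
  exact (etRep_refine_iff hs hid).1 (etRep_id_of_universallyClosed D')

/-- The representing object of a separated datum can be taken separated. -/
theorem exists_uni_separated (hg : SGA1.UnivSubmersive g) [IsSeparated (obj₀ D).hom]
    {S₁ : Scheme.{u}} {q : S₁ ⟶ S} (h : EtRep D q) :
    ∃ (N : Scheme.{u}) (ν : N ⟶ S₁) (n : Elt D (ν ≫ q)), Etale ν ∧ IsSeparated ν ∧ Uni D q ν n := by
  have sq : IsPullback (pullback.fst g q) (pullback.snd g q) g q := IsPullback.of_hasPullback g q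
  have hg₁ : SGA1.UnivSubmersive (pullback.snd g q) := MorphismProperty.of_isPullback sq hg
  haveI : IsSeparated (obj₀ (pullCart sq D)).hom :=
    inferInstanceAs (IsSeparated (pullback.snd (obj₀ D).hom (pullback.fst g q)))
  obtain ⟨U, hU, ⟨e⟩⟩ := (effEt_iff_etRep_id hg₁).2 ((etRep_trans_iff sq (Category.id_comp q)).2 h)
  have hs := isSeparated_of_iso hg₁ U e
  obtain ⟨m, hm⟩ := exists_universal_of_iso hg₁ U e
  obtain ⟨n, rfl⟩ := (pull_bijective sq U.hom).2 m
  exact ⟨_, _, n, hU, hs, (uni_iff sq U.hom n).2 hm⟩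

/-- Descent of étale representability of separated data along proper surjective morphisms. -/
theorem etRep_id_of_proper (hg : SGA1.UnivSubmersive g) [Etale (D.obj PUnit.unit).hom]
    [IsSeparated (obj₀ D).hom] {S₁ : Scheme.{u}} (q : S₁ ⟶ S) [IsProper q] [Surjective q]
    [LocallyOfFinitePresentation q] (h : EtRep D q) : EtRep D (𝟙 S) := by
  obtain ⟨N, ν, n, hν, hs, hn⟩ := exists_uni_separated hg h
  have hq := univSubmersive_of_universallyClosed q
  let R : Reps D (fam q) := ⟨fun _ => N, fun _ => ν, fun _ => n, fun _ => hn⟩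
  haveI : Etale (obj₀ R.dd).hom := hν
  haveI : IsSeparated (obj₀ R.dd).hom := hs
  obtain ⟨M, μ, mE, hμ, hm⟩ := (effEt_iff hq).1 ((effEt_iff_etRep_id hq).2 (etRep_id_of_universallyClosed R.dd))
  obtain ⟨m, hm'⟩ := exists_universal_of_dd R hq hm
  obtain ⟨m', hm''⟩ := uni_of_isUniversal hm'
  exact ⟨M, μ, m', hμ, hm''⟩

/-- Separated étale data are representable along universally subtrusive morphisms of finite presentation. -/
theorem etRep_id_of_univSSubtrusive_fp [LocallyOfFinitePresentation g] [QuasiCompact g] [QuasiSeparated g]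
    (hg : Subtr.UnivSSubtrusive g) (hu : SGA1.UnivSubmersive g)
    [Etale (obj₀ D).hom] [IsSeparated (obj₀ D).hom] : EtRep D (𝟙 S) := by
  refine etRep_of_openCover (fun W : {W : S.Opens // IsAffineOpen W} => W.1)
    (TopologicalSpace.IsOpenCover.mk (eq_top_iff.2 fun s _ => ?_)) fun W => ?_
  · obtain ⟨_, ⟨W, hW, rfl⟩, hsW, -⟩ := S.isBasis_affineOpens.exists_subset_of_mem_open (Set.mem_univ s) isOpen_univ
    exact TopologicalSpace.Opens.mem_iSup.2 ⟨⟨W, hW⟩, hsW⟩
  rw [Category.comp_id]
  haveI : IsAffine (W.1 : Scheme.{u}) := W.2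
  have sq : IsPullback (pullback.fst g W.1.ι) (pullback.snd g W.1.ι) g W.1.ι := IsPullback.of_hasPullback _ _
  haveI : Etale (obj₀ (pullCart sq D)).hom :=
    inferInstanceAs (Etale (pullback.snd (obj₀ D).hom (pullback.fst g W.1.ι)))
  haveI : IsSeparated (obj₀ (pullCart sq D)).hom :=
    inferInstanceAs (IsSeparated (pullback.snd (obj₀ D).hom (pullback.fst g W.1.ι)))
  have hu' : SGA1.UnivSubmersive (pullback.snd g W.1.ι) := MorphismProperty.of_isPullback sq hu
  have hg' : Subtr.UnivSSubtrusive (pullback.snd g W.1.ι) :=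
    MorphismProperty.of_isPullback (P := MorphismProperty.universally _) sq hg
  refine (etRep_trans_iff sq (Category.id_comp _)).1 ?_
  obtain ⟨X', Y', l, p, q, hw, hp, -, -, hloc, hq, hqs, hqf⟩ :=
    SubtrRefine4.refines_proper (pullback.snd g W.1.ι) (Or.inl inferInstance) hg'
  haveI : IsProper q := hq
  choose U hU hUp using hloc
  refine etRep_id_of_proper hu' q ?_
  let V : X' → Y'.Opens := fun x =>
    haveI := hUp x; ((U x).ι ≫ p).opensRange
  refine etRep_of_openCover V (TopologicalSpace.IsOpenCover.mk (eq_top_iff.2 fun y _ => ?_)) fun x => ?_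
  · obtain ⟨x, rfl⟩ := p.surjective y
    exact TopologicalSpace.Opens.mem_iSup.2 ⟨x, ⟨x, hU x⟩, rfl⟩
  · haveI := hUp x
    refine etRep_of_section' ((((U x).ι ≫ p).isoOpensRange).inv ≫ (U x).ι ≫ l) ?_
    have e : ((U x).ι ≫ p).isoOpensRange.inv ≫ (U x).ι ≫ p = (V x).ι := by
      rw [Iso.inv_comp_eq]; exact (Scheme.Hom.isoOpensRange_hom_ι _).symm
    rw [Category.assoc, Category.assoc, hw, ← Category.assoc (U x).ι, ← Category.assoc]
    exact congrArg (· ≫ q) e

end GrothLib.EtSubtr4
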