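import Mathlib.AlgebraicGeometry.AffineTransitionLimit
import Mathlib.AlgebraicGeometry.Morphisms.QuasiSeparated

/-!
# Fibre products of two diagrams over a fixed scheme
-/

set_option autoImplicit false
set_option backward.isDefEq.respectTransparency false

universe u

open CategoryTheory CategoryTheory.Limits AlgebraicGeometry

noncomputable section

namespace GrothLib.EtSubtr4

variable {J : Type u} [SmallCategory J] {S : Scheme.{u}}

/-- A diagram over `S` with a cone. -/
structure OverDiag (J : Type u) [SmallCategory J] (S : Scheme.{u}) where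
  /-- the diagram -/
  F : J ⥤ Scheme.{u}
  /-- its structure maps -/
  t : F ⟶ (Functor.const J).obj S
  /-- the cone -/
  c : Cone F
  /-- the structure map of the apex -/
  s : c.pt ⟶ S
  hs : ∀ j, c.π.app j ≫ t.app j = s

namespace OverDiag

variable (A B : OverDiag J S)

@[reassoc]
theorem t_nat {i j : J} (φ : i ⟶ j) : A.F.map φ ≫ A.t.app j = A.t.app i :=
  (A.t.naturality φ).trans (Category.comp_id _)

/-- The transition map of the product. -/
def prodMap {i j : J} (φ : i ⟶ j) : pullback (A.t.app i) (B.t.app i) ⟶ pullback (A.t.app j) (B.t.app j) :=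
  pullback.map _ _ _ _ (A.F.map φ) (B.F.map φ) (𝟙 S) ((Category.comp_id _).trans (t_nat A φ).symm)
    ((Category.comp_id _).trans (t_nat B φ).symm)

@[reassoc (attr := simp)]
theorem prodMap_fst {i j : J} (φ : i ⟶ j) :
    prodMap A B φ ≫ pullback.fst (A.t.app j) (B.t.app j) = pullback.fst _ _ ≫ A.F.map φ :=
  pullback.lift_fst _ _ _

@[reassoc (attr := simp)]
theorem prodMap_snd {i j : J} (φ : i ⟶ j) :
    prodMap A B φ ≫ pullback.snd (A.t.app j) (B.t.app j) = pullback.snd _ _ ≫ B.F.map φ :=
  pullback.lift_snd _ _ _

/-- The product of two diagrams over `S`. -/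
@[simps F]
def prod : OverDiag J S where
  F :=
    { obj := fun j => pullback (A.t.app j) (B.t.app j)
      map := fun φ => prodMap A B φ
      map_id := fun j => by apply pullback.hom_ext <;> simp
      map_comp := fun φ ψ => by apply pullback.hom_ext <;> simp }
  t :=
    { app := fun j => pullback.fst (A.t.app j) (B.t.app j) ≫ A.t.app j
      naturality := fun i j φ => by
        simp [t_nat] }
  c :=
    { pt := pullback A.s B.s
      π :=
        { app := fun j => pullback.map A.s B.s _ _ (A.c.π.app j) (B.c.π.app j) (𝟙 S)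
            (by rw [Category.comp_id, A.hs]) (by rw [Category.comp_id, B.hs])
          naturality := fun i j φ => by
            apply pullback.hom_ext <;> simp [A.c.w, B.c.w] } }
  s := pullback.fst A.s B.s ≫ A.s
  hs j := by simp [A.hs]

@[reassoc (attr := simp)]
theorem prod_π_fst (j : J) :
    (prod A B).c.π.app j ≫ pullback.fst (A.t.app j) (B.t.app j) = pullback.fst A.s B.s ≫ A.c.π.app j :=
  pullback.lift_fst _ _ _

@[reassoc (attr := simp)]
theorem prod_π_snd (j : J) :
    (prod A B).c.π.app j ≫ pullback.snd (A.t.app j) (B.t.app j) = pullback.snd A.s B.s ≫ B.c.π.app j :=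
  pullback.lift_snd _ _ _

/-- The product of limits is the limit of the products. -/
def isLimitProd [IsCofiltered J] (hA : IsLimit A.c) (hB : IsLimit B.c) : IsLimit (prod A B).c := by
  let cA : Cone (prod A B).F → Cone A.F := fun s =>
    { pt := s.pt
      π := { app := fun j => s.π.app j ≫ pullback.fst (A.t.app j) (B.t.app j)
             naturality := fun i j φ => by
               refine (Category.id_comp _).trans ?_
               rw [← s.w φ, Category.assoc, Category.assoc]
               exact congrArg _ (prodMap_fst A B φ) } }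
  let cB : Cone (prod A B).F → Cone B.F := fun s =>
    { pt := s.pt
      π := { app := fun j => s.π.app j ≫ pullback.snd (A.t.app j) (B.t.app j)
             naturality := fun i j φ => by
               refine (Category.id_comp _).trans ?_
               rw [← s.w φ, Category.assoc, Category.assoc]
               exact congrArg _ (prodMap_snd A B φ) } }
  have hw : ∀ s, hA.lift (cA s) ≫ A.s = hB.lift (cB s) ≫ B.s := fun s => by
    obtain ⟨j⟩ := IsCofiltered.nonempty (C := J)
    rw [← A.hs j, ← B.hs j, hA.fac_assoc, hB.fac_assoc]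
    simp [cA, cB, pullback.condition]
  refine
    { lift := fun s => pullback.lift (hA.lift (cA s)) (hB.lift (cB s)) (hw s)
      fac := fun s j => ?_
      uniq := fun s m hm => ?_ }
  · apply pullback.hom_ext
    · rw [Category.assoc, prod_π_fst, pullback.lift_fst_assoc, hA.fac]
    · rw [Category.assoc, prod_π_snd, pullback.lift_snd_assoc, hB.fac]
  · apply pullback.hom_ext
    · rw [pullback.lift_fst]
      refine hA.hom_ext fun j => ?_
      rw [hA.fac]
      change (m ≫ pullback.fst A.s B.s) ≫ A.c.π.app j = s.π.app j ≫ _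
      rw [← hm j, Category.assoc, Category.assoc, prod_π_fst]
    · rw [pullback.lift_snd]
      refine hB.hom_ext fun j => ?_
      rw [hB.fac]
      change (m ≫ pullback.snd A.s B.s) ≫ B.c.π.app j = s.π.app j ≫ _
      rw [← hm j, Category.assoc, Category.assoc, prod_π_snd]

instance isAffineHom_prodMap [∀ (i j : J) (φ : i ⟶ j), IsAffineHom (A.F.map φ)]
    [∀ (i j : J) (φ : i ⟶ j), IsAffineHom (B.F.map φ)] (i j : J) (φ : i ⟶ j) :
    IsAffineHom ((prod A B).F.map φ) :=
  MorphismProperty.pullbackMap (P := @IsAffineHom) (‹∀ (i j : J) (φ : i ⟶ j), IsAffineHom (A.F.map φ)› i j φ)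
    (‹∀ (i j : J) (φ : i ⟶ j), IsAffineHom (B.F.map φ)› i j φ) (t_nat A φ).symm (t_nat B φ).symm

instance compactSpace_prod [∀ i, CompactSpace (A.F.obj i)] [∀ i, CompactSpace (B.F.obj i)]
    [QuasiSeparatedSpace S] (i : J) : CompactSpace ((prod A B).F.obj i) := by
  haveI : QuasiCompact (B.t.app i) := quasiCompact_of_compactSpace (Y := S) _
  exact QuasiCompact.compactSpace_of_compactSpace (pullback.fst (A.t.app i) (B.t.app i))

instance quasiSeparatedSpace_prod [∀ i, QuasiSeparatedSpace (A.F.obj i)]
    [∀ i, QuasiSeparatedSpace (B.F.obj i)] (i : J) : QuasiSeparatedSpace ((prod A B).F.obj i) :=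
  quasiSeparatedSpace_of_quasiSeparated (pullback.fst (A.t.app i) (B.t.app i))

end OverDiag

end GrothLib.EtSubtr4
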