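import Groth.Agent.Lib.EtSubtr4.LimDatum
import Groth.Agent.Lib.EtSubtr4.NonQCGlobal
import Groth.Agent.Lib.AbsApprox.RelMain
import Groth.Agent.Lib.AlgSp.SourceDescent
import Mathlib.CategoryTheory.Limits.Constructions.Over.Connected
import Mathlib.AlgebraicGeometry.Morphisms.UniversallyOpen

/-!
# Effectivity along quasi-compact universally subtrusive morphisms
-/

set_option autoImplicit false
set_option backward.isDefEq.respectTransparency false
set_option backward.isDefEq.respectTransparency.types false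
set_option linter.style.haveILetI false

universe u

open CategoryTheory CategoryTheory.Limits AlgebraicGeometry Desc

noncomputable section

namespace GrothLib.EtSubtr4

open GrothLib.SchEffective GrothLib.DDPull GrothLib.EtDescent21

instance : Subtr.UnivSSubtrusive.{u}.IsStableUnderComposition := by
  haveI : MorphismProperty.IsStableUnderComposition (C := Scheme.{u}) (fun _ _ f => Subtr.IsSSubtrusive f) :=
    ⟨fun f g hf hg z z' hz => by
      obtain ⟨y, y', hy, h1, h2⟩ := hg hz
      obtain ⟨x, x', hx, h3, h4⟩ := hf hy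
      exact ⟨x, x', hx, by rw [Scheme.Hom.comp_apply, h3, h1], by rw [Scheme.Hom.comp_apply, h4, h2]⟩⟩
  exact inferInstanceAs (MorphismProperty.universally (C := Scheme.{u}) fun _ _ f => Subtr.IsSSubtrusive f).IsStableUnderComposition

/-- Faithfully flat morphisms are universally S-subtrusive. -/
theorem univSSubtrusive_of_flat {X Y : Scheme.{u}} (h : X ⟶ Y) [Flat h] [Surjective h] :
    Subtr.UnivSSubtrusive h := fun _ _ _ _ h' hp => by
  haveI : Flat h' := MorphismProperty.of_isPullback hp.flip ‹Flat h›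
  haveI : Surjective h' := MorphismProperty.of_isPullback hp.flip ‹Surjective h›
  intro y y' hy
  obtain ⟨x, hx⟩ := h'.surjective y
  obtain ⟨x', hx', hxy'⟩ := Flat.generalizingMap h' (show y' ⤳ h' x by rw [hx]; exact hy)
  exact ⟨x, x', hx', hx, hxy'⟩

/-- The case of a quasi-compact quasi-separated source over an affine base. -/
theorem etRep_id_of_qcqs {S X : Scheme.{u}} [IsAffine S] [CompactSpace X] [QuasiSeparatedSpace X] {g : X ⟶ S}
    (hg : Subtr.UnivSSubtrusive g) (D : SchDDFam (fam g)) [Etale (obj₀ D).hom] [IsSeparated (obj₀ D).hom]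
    [QuasiCompact (obj₀ D).hom] : EtRep D (𝟙 S) := by
  obtain ⟨I, _, _, _, DI, π, hl, h1, h2, -⟩ := GrothLib.AbsApprox.exists_rel_approx g
  haveI : IsConnected Iᵒᵖ := IsCofiltered.isConnected _
  let A : OverDiag Iᵒᵖ S :=
    { F := DI ⋙ Over.forget S
      t := { app := fun i => (DI.obj i).hom
             naturality := fun i j φ => (Over.w (DI.map φ)).trans (Category.comp_id _).symm }
      c := (Over.forget S).mapCone (Cone.mk (Over.mk g) π)
      s := g
      hs := fun i => Over.w (π.app i) }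
  have hA : IsLimit A.c := isLimitOfPreserves (Over.forget S) hl
  haveI : ∀ (i j : Iᵒᵖ) (φ : i ⟶ j), IsAffineHom (A.F.map φ) := h2
  haveI : ∀ i, CompactSpace (A.F.obj i) := fun i => (h1 i).2.2.2.1
  haveI : ∀ i, QuasiSeparatedSpace (A.F.obj i) := fun i => (h1 i).2.2.2.2
  haveI : ∀ i, LocallyOfFinitePresentation (A.t.app i) := fun i => (h1 i).1
  haveI : QuasiCompact A.s := show QuasiCompact g from quasiCompact_of_compactSpace g
  exact etRep_id_of_limit hA hg D

/-- Representability along quasi-compact universally subtrusive morphisms. -/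
theorem etRep_id_of_univSSubtrusive {S X : Scheme.{u}} {g : X ⟶ S} [QuasiCompact g]
    (hg : Subtr.UnivSSubtrusive g) (D : SchDDFam (fam g)) [Etale (obj₀ D).hom] [IsSeparated (obj₀ D).hom]
    [QuasiCompact (obj₀ D).hom] : EtRep D (𝟙 S) := by
  refine etRep_of_openCover (fun W : {W : S.Opens // IsAffineOpen W} => W.1)
    (TopologicalSpace.IsOpenCover.mk (eq_top_iff.2 fun s _ => ?_)) fun W => ?_
  · obtain ⟨_, ⟨W, hW, rfl⟩, hsW, -⟩ := S.isBasis_affineOpens.exists_subset_of_mem_open (Set.mem_univ s) isOpen_univ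
    exact TopologicalSpace.Opens.mem_iSup.2 ⟨⟨W, hW⟩, hsW⟩
  rw [Category.comp_id]
  haveI : IsAffine (W.1 : Scheme.{u}) := W.2
  have sq : IsPullback (pullback.fst g W.1.ι) (pullback.snd g W.1.ι) g W.1.ι := IsPullback.of_hasPullback _ _
  haveI : Etale (obj₀ (pullCart sq D)).hom :=
    inferInstanceAs (Etale (pullback.snd (obj₀ D).hom (pullback.fst g W.1.ι)))
  haveI : IsSeparated (obj₀ (pullCart sq D)).hom :=
    inferInstanceAs (IsSeparated (pullback.snd (obj₀ D).hom (pullback.fst g W.1.ι)))
  haveI : QuasiCompact (obj₀ (pullCart sq D)).hom :=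
    inferInstanceAs (QuasiCompact (pullback.snd (obj₀ D).hom (pullback.fst g W.1.ι)))
  have hg' : Subtr.UnivSSubtrusive (pullback.snd g W.1.ι) :=
    MorphismProperty.of_isPullback (P := MorphismProperty.universally _) sq hg
  refine (etRep_trans_iff sq (Category.id_comp _)).1 ?_
  haveI : CompactSpace ↥(pullback g W.1.ι) :=
    QuasiCompact.compactSpace_of_compactSpace (pullback.snd g W.1.ι)
  obtain ⟨X', h, _, _, hs⟩ := GrothLib.AlgSp.exists_affine_etale_cover (𝟙 (pullback g W.1.ι))
  rw [Category.comp_id] at hs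
  haveI := hs
  have hw : h ≫ pullback.snd g W.1.ι = h ≫ pullback.snd g W.1.ι := rfl
  have hg'' : Subtr.UnivSSubtrusive (h ≫ pullback.snd g W.1.ι) :=
    Subtr.UnivSSubtrusive.comp_mem _ _ (univSSubtrusive_of_flat h) hg'
  haveI : CompactSpace X' := isCompact_univ_iff.mp (isAffineOpen_top X').isCompact
  haveI : QuasiCompact (h ≫ pullback.snd g W.1.ι) := quasiCompact_of_compactSpace _
  let D' := refineDD hw (pullCart sq D)
  haveI : Etale (obj₀ D').hom := inferInstanceAs (Etale (pullback.snd (obj₀ (pullCart sq D)).hom h))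
  haveI : IsSeparated (obj₀ D').hom := inferInstanceAs (IsSeparated (pullback.snd (obj₀ (pullCart sq D)).hom h))
  haveI : QuasiCompact (obj₀ D').hom := inferInstanceAs (QuasiCompact (pullback.snd (obj₀ (pullCart sq D)).hom h))
  exact (etRep_refine_iff hw (GrothLib.SubtrLim.univSubmersive_of_univSSubtrusive hg'')).1
    (etRep_id_of_qcqs hg'' D')

/-- Translation to the datum of one morphism, quasi-compact case. -/
theorem exists_descended_sepqc {S X : Scheme.{u}} {g : X ⟶ S} [QuasiCompact g] (hg : Subtr.UnivSSubtrusive g)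
    (D : SchDD g) [QuasiCompact D.obj.hom] [IsSeparated D.obj.hom] [Etale D.obj.hom] :
    ∃ U : Over S, QuasiCompact U.hom ∧ IsSeparated U.hom ∧ Etale U.hom ∧ Nonempty ((toDD g).obj U ≅ D) := by
  let F : SchDDFam (fam g) := (SchDDFam.ofSchDD g).obj D
  haveI : Etale (obj₀ F).hom := ‹Etale D.obj.hom›
  haveI : IsSeparated (obj₀ F).hom := ‹IsSeparated D.obj.hom›
  haveI : QuasiCompact (obj₀ F).hom := ‹QuasiCompact D.obj.hom›
  have hu := GrothLib.SubtrLim.univSubmersive_of_univSSubtrusive hg
  haveI : IsSeparated (F.obj PUnit.unit).hom := ‹IsSeparated (obj₀ F).hom›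
  haveI : QuasiCompact (F.obj PUnit.unit).hom := ‹QuasiCompact (obj₀ F).hom›
  obtain ⟨U, h₁, h₂, h₃, ⟨e⟩⟩ := (effEtS_iff_etSRep_id hu).2
    (etSRep_of_etRep hu (etRep_id_of_univSSubtrusive hg F))
  exact ⟨U, h₃, h₂, h₁, ⟨(SchDDFam.toSchDD g).mapIso e⟩⟩

end GrothLib.EtSubtr4
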