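import Groth.Agent.Lib.EtDescent21.OpenSub
import Groth.Agent.Lib.SchEffective.Union
import Groth.Agent.Lib.EtSubtr4.Effective

/-!
# Gluing effective open sub-data along universally submersive morphisms
-/

set_option autoImplicit false
set_option backward.isDefEq.respectTransparency false
set_option backward.isDefEq.respectTransparency.types false

universe u

open CategoryTheory CategoryTheory.Limits AlgebraicGeometry Desc

namespace GrothLib.EtSubtr4

open GrothLib.SchEffective GrothLib.DDPull GrothLib.EtDescent21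

variable {S X₀ : Scheme.{u}} (p : X₀ ⟶ S)

/-- A datum covered by effective open sub-data is representable. -/
theorem etRep_id_of_openSubData (hp : SGA1.UnivSubmersive p) {D : SchDDFam (fam p)} {κ : Type u}
    (D' : κ → SchDDFam (fam p)) (j : ∀ k, D' k ⟶ D)
    (hj : ∀ k, IsOpenImmersion ((j k).hom PUnit.unit).left)
    (hcov : ∀ v : (D.obj PUnit.unit).left, ∃ k, v ∈ Set.range ((j k).hom PUnit.unit).left)
    (hrep : ∀ k, ∃ (M : Scheme.{u}) (μ : M ⟶ S) (m : Elt (D' k) μ), Etale μ ∧ IsUniversal m) :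
    EtRep D (𝟙 S) := by
  choose M μ m hμ hm using hrep
  haveI : ∀ k i, IsOpenImmersion ((j k).hom i).left := fun k _ => hj k
  haveI : ∀ k i, Mono ((j k).hom i).left := fun k i => inferInstance
  let O : ∀ (_ : κ) {T : Scheme.{u}} {t : T ⟶ S} (_ : Elt D t), (pullback p t).Opens :=
    fun k {T t} a => a.a PUnit.unit ⁻¹ᵁ ((j k).hom PUnit.unit).left.opensRange
  have hsat : ∀ (k : κ) {T : Scheme.{u}} {t : T ⟶ S} (a : Elt D t),
      pullback.snd p t ⁻¹' (pullback.snd p t '' (O k a : Set ↥(pullback p t))) = O k a := by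
    intro k T t a
    refine Set.Subset.antisymm ?_ (Set.subset_preimage_image _ _)
    rintro z₁ ⟨z₀, hz₀, hz⟩
    obtain ⟨w, hw₀, hw₁⟩ :=
      Scheme.Pullback.exists_preimage_pullback (f := pullback.snd p t) (g := pullback.snd p t) z₀ z₁ hz
    let π₀ := pullback.fst (pullback.snd p t) (pullback.snd p t)
    let π₁ := pullback.snd (pullback.snd p t) (pullback.snd p t)
    let O₂ : (pullback (pullback.snd p t) (pullback.snd p t)).Opens := π₀ ⁻¹ᵁ O k a
    let x : ∀ π : pullback (pullback.snd p t) (pullback.snd p t) ⟶ pullback p t, _ := fun π =>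
      O₂.ι ≫ π ≫ pullback.fst p t
    let s := O₂.ι ≫ π₀ ≫ pullback.snd p t
    have hs : s = O₂.ι ≫ π₁ ≫ pullback.snd p t := congrArg (O₂.ι ≫ ·) pullback.condition
    have hx₀ : x π₀ ≫ p = s ≫ t := by simp only [x, s, Category.assoc, pullback.condition]
    have hx₁ : x π₁ ≫ p = s ≫ t := by rw [hs]; simp only [x, Category.assoc, pullback.condition]
    have e₀ : (a.app (i := PUnit.unit) (x π₀) s hx₀).1 = (O₂.ι ≫ π₀) ≫ a.a PUnit.unit :=
      congrArg (· ≫ a.a PUnit.unit) (pullback.hom_ext (by simp [x]) (by simp [s]))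
    have e₁ : (a.app (i := PUnit.unit) (x π₁) s hx₁).1 = (O₂.ι ≫ π₁) ≫ a.a PUnit.unit :=
      congrArg (· ≫ a.a PUnit.unit) (pullback.hom_ext (by simp [x]) (by simp [hs]))
    have hr : Set.range (a.app (i := PUnit.unit) (x π₀) s hx₀).1 ⊆ Set.range ((j k).hom PUnit.unit).left := by
      rw [e₀]
      rintro _ ⟨y, rfl⟩
      rw [Category.assoc, Scheme.Hom.comp_apply, Scheme.Hom.comp_apply]
      exact y.2
    let v : Lifts ((D' k).obj PUnit.unit) (x π₀) := ⟨IsOpenImmersion.lift _ _ hr, by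
      rw [← Over.w ((j k).hom PUnit.unit), ← Category.assoc, IsOpenImmersion.lift_fac]
      exact (a.app (i := PUnit.unit) (x π₀) s hx₀).2⟩
    have hv := (j k).comm (i := PUnit.unit) (j := PUnit.unit) (x π₀) (x π₁) (hx₀.trans hx₁.symm) v (a.app (x π₀) s hx₀)
      (IsOpenImmersion.lift_fac _ _ _).symm
    rw [a.φ_app (x π₀) (x π₁) s hx₀ hx₁ (hx₀.trans hx₁.symm), e₁] at hv
    have hwO : w ∈ O₂ := by change π₀ w ∈ O k a; rw [hw₀]; exact hz₀
    refine ⟨((D' k).φ (x π₀) (x π₁) (hx₀.trans hx₁.symm) v).1 ⟨w, hwO⟩, ?_⟩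
    change ((j k).hom PUnit.unit).left _ = _
    rw [← Scheme.Hom.comp_apply, ← hv, Scheme.Hom.comp_apply, Scheme.Hom.comp_apply]
    exact congrArg _ hw₁
  haveI : ∀ {T : Scheme.{u}} (t : T ⟶ S), Surjective (pullback.snd p t) := fun t =>
    SGA1Sub21.surjective (MorphismProperty.pullback_snd _ _ hp)
  have hquot : ∀ {T : Scheme.{u}} (t : T ⟶ S), Topology.IsQuotientMap (pullback.snd p t) := fun {T} t =>
    MorphismProperty.universally_le _ _ (MorphismProperty.pullback_snd p t hp)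
  let V : ∀ (_ : κ) {T : Scheme.{u}} (t : T ⟶ S) (_ : Elt D t), T.Opens := fun k {T} t a =>
    ⟨pullback.snd p t '' (O k a : Set ↥(pullback p t)), by
      rw [← (hquot t).isCoinducing.isOpen_preimage, hsat]
      exact (O k a).2⟩
  refine etRep_id_of_openSub M μ hμ (fun k => (m k).push (j k)) V (fun k {T} t a {T'} g => ⟨fun hg => ?_, ?_⟩)
    (fun k {T} t a h h' hh hh' => ?_) fun {T} t a z => ?_
  · obtain ⟨b, hb⟩ := Elt.exists_push (j k) (a.res g rfl) fun T'' _ x s hx => by
      have hx' : x ≫ p = (s ≫ g) ≫ t := by rw [Category.assoc]; exact hx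
      rw [Elt.res_app a g rfl x s hx hx']
      rintro _ ⟨z, rfl⟩
      have hz : pullback.lift x (s ≫ g) hx' z ∈ O k a := by
        have h1 : pullback.snd p t (pullback.lift x (s ≫ g) hx' z) ∈ V k t a := by
          rw [← Scheme.Hom.comp_apply, pullback.lift_snd, Scheme.Hom.comp_apply]
          exact hg ⟨s z, rfl⟩
        exact (Set.ext_iff.1 (hsat k a) _).1 h1
      change (pullback.lift x (s ≫ g) hx' ≫ a.a PUnit.unit) z ∈ _
      rw [Scheme.Hom.comp_apply]
      exact hz
    obtain ⟨l, hl, -⟩ := hm k (g ≫ t) b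
    exact ⟨l, hb ▸ Elt.push_isRes hl (j k)⟩
  · rintro ⟨l, hl⟩ _ ⟨z, rfl⟩
    obtain ⟨w, hw⟩ := (pullback.snd p (g ≫ t)).surjective z
    let x : pullback p (g ≫ t) ⟶ X₀ := pullback.fst p (g ≫ t)
    let s : pullback p (g ≫ t) ⟶ T' := pullback.snd p (g ≫ t)
    have hx : x ≫ p = s ≫ g ≫ t := pullback.condition
    have hx' : x ≫ p = (s ≫ g) ≫ t := by rw [Category.assoc]; exact hx
    have hx'' : x ≫ p = (s ≫ l) ≫ μ k := by rw [hx, Category.assoc, hl.1]
    refine ⟨pullback.lift x (s ≫ g) hx' w, ?_, ?_⟩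
    · refine ⟨((m k).app (i := PUnit.unit) x (s ≫ l) hx'').1 w, ?_⟩
      rw [← Scheme.Hom.comp_apply, ← Elt.push_app, hl.2 (i := PUnit.unit) x s hx hx'',
        Elt.res_app a g rfl x s hx hx']
      exact Scheme.Hom.comp_apply _ _ _
    · rw [← Scheme.Hom.comp_apply, pullback.lift_snd, Scheme.Hom.comp_apply, hw]
  · have e : (m k).res h hh.1 = (m k).res h' hh'.1 := Elt.push_injective (j k) <| by
      rw [(Elt.push_isRes ((m k).isRes_res h hh.1) (j k)).eq, (Elt.push_isRes ((m k).isRes_res h' hh'.1) (j k)).eq,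
        ← hh.eq, ← hh'.eq]
    exact (hm k t ((m k).res h' hh'.1)).unique (e ▸ (m k).isRes_res h hh.1) ((m k).isRes_res h' hh'.1)
  · obtain ⟨w, hw⟩ := (pullback.snd p t).surjective z
    obtain ⟨k, hk⟩ := hcov (a.a PUnit.unit w)
    exact ⟨k, w, hk, hw⟩

end GrothLib.EtSubtr4
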