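import Groth.Agent.Lib.EtDescent21.RefineSubmersive
import Groth.Agent.Lib.EtDescent21.Transitive

/-!
# Representability of elements descends along universally submersive morphisms

If the representing objects of an étale descent datum over a universally submersive `q : S₁ ⟶ S` form a
representable datum relative to `q`, then the datum is representable over `S`.
-/

set_option autoImplicit false
set_option backward.isDefEq.respectTransparency false
set_option backward.isDefEq.respectTransparency.types false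
set_option linter.style.haveILetI false
set_option maxHeartbeats 1600000

universe u

open CategoryTheory CategoryTheory.Limits AlgebraicGeometry Desc

noncomputable section

namespace GrothLib.EtSubtr4

open GrothLib.SchEffective GrothLib.DDPull GrothLib.EtDescent21

variable {S X S₁ : Scheme.{u}} {g : X ⟶ S} {D : SchDDFam (fam g)} {q : S₁ ⟶ S} (R : Reps D (fam q))
  [Etale (D.obj PUnit.unit).hom] (hq : SGA1.UnivSubmersive q)

/-- The point of the representing object attached to an element at a point of `S₁`. -/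
def ptVal {T : Scheme.{u}} {t : T ⟶ S} (a : Elt D t) {T' : Scheme.{u}} {i : PUnit.{u + 1}} (y : T' ⟶ S₁)
    (s : T' ⟶ T) (h : y ≫ fam q i = s ≫ t) : Lifts (Over.mk (R.ν i)) y :=
  (R.equiv (j := i) y).symm (a.res s h.symm)

omit [Etale (D.obj PUnit.unit).hom] in
theorem equiv_ptVal {T : Scheme.{u}} {t : T ⟶ S} (a : Elt D t) {T' : Scheme.{u}} {i : PUnit.{u + 1}}
    (y : T' ⟶ S₁) (s : T' ⟶ T) (h : y ≫ fam q i = s ≫ t) :
    R.equiv (j := i) y (ptVal R a y s h) = a.res s h.symm :=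
  Equiv.apply_symm_apply _ _

omit [Etale (D.obj PUnit.unit).hom] in
theorem ptVal_natural {T : Scheme.{u}} {t : T ⟶ S} (a : Elt D t) {T' T'' : Scheme.{u}} (k : T'' ⟶ T')
    {i : PUnit.{u + 1}} (y : T' ⟶ S₁) (s : T' ⟶ T) (h : y ≫ fam q i = s ≫ t) (y' : T'' ⟶ S₁) (s' : T'' ⟶ T)
    (hy : k ≫ y = y') (hs : k ≫ s = s') (h' : y' ≫ fam q i = s' ≫ t) :
    (ptVal R a y' s' h').1 = k ≫ (ptVal R a y s h).1 := by
  subst hy hs
  let w := ptVal R a y s h
  have hk : (k ≫ w.1) ≫ R.ν i = k ≫ y := (Category.assoc _ _ _).trans (congrArg (k ≫ ·) w.2)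
  refine congrArg Subtype.val (show _ = (⟨k ≫ w.1, hk⟩ : Lifts (Over.mk (R.ν i)) (k ≫ y)) from
    (R.equiv (j := i) (k ≫ y)).injective ?_)
  rw [equiv_ptVal]
  refine Elt.ext' fun T₃ l x r hx => ?_
  have e1 : x ≫ g = (r ≫ k ≫ s) ≫ t := by rw [Category.assoc, ← h']; exact hx
  have e2 : x ≫ g = (r ≫ k ≫ w.1) ≫ R.ν i ≫ fam q i := by
    rw [Category.assoc r, ← Category.assoc (k ≫ w.1), hk]; exact hx
  refine ((Elt.res_app a (k ≫ s) h'.symm x r hx e1).trans ?_).trans (R.equiv_app (k ≫ y) ⟨k ≫ w.1, hk⟩ x r hx e2).symm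
  have e3 : x ≫ g = (r ≫ k) ≫ y ≫ fam q i := by
    refine hx.trans ?_; simp only [Category.assoc]
  have e4 : x ≫ g = ((r ≫ k) ≫ w.1) ≫ R.ν i ≫ fam q i := by rw [Category.assoc r k]; exact e2
  have e5 : x ≫ g = ((r ≫ k) ≫ s) ≫ t := by rw [Category.assoc r k]; exact e1
  refine Eq.trans ?_ ((R.n i).app_congr rfl (Category.assoc r k w.1) e4 e2)
  refine Eq.trans ?_ (R.equiv_app y w x (r ≫ k) e3 e4)
  refine Eq.trans ?_ (congrArg (fun z : Elt D (y ≫ fam q i) => (z.app (i := l) x (r ≫ k) e3).1) (equiv_ptVal R a y s h)).symm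
  refine Eq.trans ?_ (Elt.res_app a s h.symm x (r ≫ k) e3 e5).symm
  exact a.app_congr rfl (Category.assoc _ _ _).symm _ _

omit [Etale (D.obj PUnit.unit).hom] in
theorem ptVal_compat {T : Scheme.{u}} {t : T ⟶ S} (a : Elt D t) {T' : Scheme.{u}} {i j : PUnit.{u + 1}}
    (y y' : T' ⟶ S₁) (s : T' ⟶ T) (hy : y ≫ fam q i = s ≫ t) (hy' : y' ≫ fam q j = s ≫ t) :
    (R.trans y y' (hy.trans hy'.symm) (ptVal R a y s hy)).1 = (ptVal R a y' s hy').1 := by
  have hh : y ≫ fam q i = y' ≫ fam q j := hy.trans hy'.symm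
  have key : R.equiv (j := j) y' (R.trans y y' hh (ptVal R a y s hy)) =
      R.equiv (j := j) y' (ptVal R a y' s hy') := by
    refine (R.trans_spec y y' hh (ptVal R a y s hy)).trans ?_
    rw [equiv_ptVal R a y s hy, equiv_ptVal R a y' s hy']
    refine Elt.ext' fun T₃ l x r hx => ?_
    have e0 : x ≫ g = r ≫ y ≫ fam q i := hx.trans (congrArg (r ≫ ·) hh.symm)
    have e1 : x ≫ g = (r ≫ s) ≫ t := by rw [Category.assoc, ← hy]; exact e0
    refine (Elt.castEq_app hh (a.res s hy.symm) (i := l) x r hx e0).trans ?_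
    exact (Elt.res_app a s hy.symm (i := l) x r e0 e1).trans (Elt.res_app a s hy'.symm (i := l) x r hx e1).symm
  exact congrArg Subtype.val ((R.equiv (j := j) y').injective key)

/-- The family of points of the representing objects attached to an element. -/
def ptsDD {T : Scheme.{u}} {t : T ⟶ S} (a : Elt D t) : Elt R.dd t :=
  Elt.ofFun (D := R.dd) (fun _ i y s h => ptVal R (i := i) a y s h)
    (fun _ _ k i y s h y' s' hy hs h' => ptVal_natural R a k (i := i) y s h y' s' hy hs h')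
    (fun _ i j y y' s hy hy' => ptVal_compat R a (i := i) (j := j) y y' s hy hy')

omit [Etale (D.obj PUnit.unit).hom] in
theorem ptsDD_app {T : Scheme.{u}} {t : T ⟶ S} (a : Elt D t) {T' : Scheme.{u}} (y : T' ⟶ S₁) (s : T' ⟶ T)
    (h : y ≫ q = s ≫ t) {i : PUnit.{u + 1}} :
    (ptsDD R a).app (i := i) y s h = (R.equiv (j := i) y).symm (a.res s h.symm) :=
  Subtype.ext (Elt.ofFun_app (D := R.dd) (fun _ i y s h => ptVal R (i := i) a y s h)
    (fun _ _ k i y s h y' s' hy hs h' => ptVal_natural R a k (i := i) y s h y' s' hy hs h')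
    (fun _ i j y y' s hy hy' => ptVal_compat R a (i := i) (j := j) y y' s hy hy') (i := i) y s h)

omit [Etale (D.obj PUnit.unit).hom] in
theorem ptsDD_isRes {T M : Scheme.{u}} {t : T ⟶ S} {μ : M ⟶ S} {m : Elt D μ} {a : Elt D t} {l : T ⟶ M}
    (hl : IsRes m l a) : IsRes (ptsDD R m) l (ptsDD R a) := by
  refine ⟨hl.1, fun T' i y s h h' => ?_⟩
  rw [ptsDD_app, ptsDD_app]
  congr 2
  refine Elt.ext' fun T'' j x r hx => ?_
  have e1 : x ≫ g = (r ≫ s ≫ l) ≫ μ := by rw [Category.assoc, h'.symm]; exact hx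
  have e2 : x ≫ g = (r ≫ s) ≫ t := by rw [Category.assoc, h.symm]; exact hx
  rw [Elt.res_app m _ _ x r hx e1, Elt.res_app a _ _ x r hx e2, ← hl.2 x (r ≫ s) e2 (by rw [Category.assoc r]; exact e1)]
  exact m.app_congr rfl (Category.assoc _ _ _).symm _ _

include hq in
theorem ptsDD_injective {T : Scheme.{u}} (t : T ⟶ S) : Function.Injective (ptsDD R (t := t)) := by
  intro a a' he
  refine Elt.ext' fun T' i x s hx => ?_
  refine ext_cover hq (t := t) s ((a.app x s hx).2.trans (a'.app x s hx).2.symm) fun T'' r y hy => ?_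
  have hx' : (r ≫ x) ≫ g = (r ≫ s) ≫ t := by rw [Category.assoc, hx, Category.assoc]
  have key : a.res (r ≫ s) hy.symm = a'.res (r ≫ s) hy.symm := by
    have h0 := congrArg (fun b : Elt R.dd t => b.app (i := i) y (r ≫ s) hy) he
    simp only [ptsDD_app] at h0
    exact (R.equiv (j := i) y).symm.injective h0
  rw [← a.app_natural r x s hx hx', ← a'.app_natural r x s hx hx']
  have e0 : (r ≫ x) ≫ g = 𝟙 T'' ≫ y ≫ q := by rw [Category.id_comp, hy]; exact hx'
  have e1 : (r ≫ x) ≫ g = (𝟙 T'' ≫ r ≫ s) ≫ t := by rw [Category.id_comp]; exact hx'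
  refine (a.app_congr rfl (Category.id_comp _).symm _ e1).trans (Eq.trans ?_ (a'.app_congr rfl (Category.id_comp _) e1 _))
  rw [← Elt.res_app a (r ≫ s) hy.symm (r ≫ x) (𝟙 T'') e0 e1, key, Elt.res_app a' (r ≫ s) hy.symm (r ≫ x) (𝟙 T'') e0 e1]

include hq in
theorem ptsDD_surjective {T : Scheme.{u}} (t : T ⟶ S) : Function.Surjective (ptsDD R (t := t)) := by
  intro b
  have hxs : ∀ {T' T'' : Scheme.{u}} (r : T'' ⟶ T') {x : T' ⟶ X} {s : T' ⟶ T},
      x ≫ g = s ≫ t → (r ≫ x) ≫ g = (r ≫ s) ≫ t := fun r x s hx => by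
    rw [Category.assoc, hx, Category.assoc]
  -- the value at a point with a chosen lift to `S₁`
  let val : ∀ {T' : Scheme.{u}} {i : PUnit.{u + 1}} (x : T' ⟶ X) (s : T' ⟶ T) (y : T' ⟶ S₁),
      x ≫ g = s ≫ t → y ≫ q = s ≫ t → Lifts (D.obj i) x := fun {T' i} x s y hx hy =>
    (R.n i).app x (b.app (i := i) y s hy).1 (by
      rw [← Category.assoc, show (b.app (i := i) y s hy).1 ≫ R.ν i = y from (b.app y s hy).2]
      exact hx.trans hy.symm)
  have valnat : ∀ {T' T'' : Scheme.{u}} (k : T'' ⟶ T') {i : PUnit.{u + 1}} (x : T' ⟶ X) (s : T' ⟶ T) (y : T' ⟶ S₁)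
      (hx : x ≫ g = s ≫ t) (hy : y ≫ q = s ≫ t) (x' : T'' ⟶ X) (s' : T'' ⟶ T) (y' : T'' ⟶ S₁)
      (_ : k ≫ x = x') (_ : k ≫ s = s') (_ : k ≫ y = y') (hx' : x' ≫ g = s' ≫ t) (hy' : y' ≫ q = s' ≫ t),
      (val (i := i) x' s' y' hx' hy').1 = k ≫ (val (i := i) x s y hx hy).1 := by
    intro T' T'' k i x s y hx hy x' s' y' e1 e2 e3 hx' hy'
    subst e1 e2 e3
    have e : (b.app (i := i) (k ≫ y) (k ≫ s) hy').1 = k ≫ (b.app (i := i) y s hy).1 := b.app_natural k y s hy hy'
    refine ((R.n i).app_congr rfl e _ ?_).trans ((R.n i).app_natural k x _ _ ?_)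
    all_goals
      rw [← e, ← Category.assoc, show (b.app (i := i) (k ≫ y) (k ≫ s) hy').1 ≫ R.ν i = k ≫ y from (b.app _ _ hy').2]
      exact hx'.trans hy'.symm
  have valeq : ∀ {T' : Scheme.{u}} {i j : PUnit.{u + 1}} (x : T' ⟶ X) (s : T' ⟶ T) (y y' : T' ⟶ S₁)
      (hx : x ≫ g = s ≫ t) (hy : y ≫ q = s ≫ t) (hy' : y' ≫ q = s ≫ t),
      (val (i := i) x s y hx hy).1 = (val (i := i) x s y' hx hy').1 := by
    intro T' i j x s y y' hx hy hy'
    have h := b.φ_app (i := i) (j := i) y y' s hy hy' (hy.trans hy'.symm)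
    have hw : (R.trans y y' (hy.trans hy'.symm) (b.app (i := i) y s hy)).1 = (b.app (i := i) y' s hy').1 :=
      congrArg Subtype.val h
    have h₀ : x ≫ g = (𝟙 T' ≫ (b.app (i := i) y s hy).1) ≫ R.ν i ≫ q := by
      rw [Category.id_comp, ← Category.assoc, show (b.app (i := i) y s hy).1 ≫ R.ν i = y from (b.app y s hy).2]
      exact hx.trans hy.symm
    have h₁ : x ≫ g = (𝟙 T' ≫ (R.trans y y' (hy.trans hy'.symm) (b.app (i := i) y s hy)).1) ≫ R.ν i ≫ q := by
      rw [hw, Category.id_comp, ← Category.assoc, show (b.app (i := i) y' s hy').1 ≫ R.ν i = y' from (b.app y' s hy').2]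
      exact hx.trans hy'.symm
    refine ((R.n i).app_congr rfl (Category.id_comp _).symm _ h₀).trans ?_
    rw [← R.trans_app y y' (hy.trans hy'.symm) (b.app (i := i) y s hy) x (𝟙 T') h₀ h₁]
    exact (R.n i).app_congr rfl ((Category.id_comp _).trans hw) _ _
  have ex : ∀ (T' : Scheme.{u}) (i : PUnit.{u + 1}) (x : T' ⟶ X) (s : T' ⟶ T) (hx : x ≫ g = s ≫ t),
      ∃ c : Lifts (D.obj i) x, ∀ ⦃T'' : Scheme.{u}⦄ (r : T'' ⟶ T') (y : T'' ⟶ S₁) (hy : y ≫ q = (r ≫ s) ≫ t),
        r ≫ c.1 = (val (i := i) (r ≫ x) (r ≫ s) y (hxs r hx) hy).1 := by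
    intro T' i x s hx
    haveI : Etale (D.obj i).hom := ‹Etale (D.obj PUnit.unit).hom›
    let π := pullback.fst (s ≫ t) q
    let y₀ := pullback.snd (s ≫ t) q
    have hy₀ : y₀ ≫ q = (π ≫ s) ≫ t := pullback.condition.symm.trans (Category.assoc _ _ _).symm
    let v := val (i := i) (π ≫ x) (π ≫ s) y₀ (hxs π hx) hy₀
    have hnat : ∀ {T'' : Scheme.{u}} (l : T'' ⟶ pullback (s ≫ t) q) (r : T'' ⟶ T') (y : T'' ⟶ S₁)
        (_ : l ≫ π = r) (_ : l ≫ y₀ = y) (hy : y ≫ q = (r ≫ s) ≫ t),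
        (val (i := i) (r ≫ x) (r ≫ s) y (hxs r hx) hy).1 = l ≫ v.1 := by
      intro T'' l r y e₁ e₂ hy
      exact valnat l _ _ _ (hxs π hx) hy₀ _ _ _ (by rw [← Category.assoc, e₁]) (by rw [← Category.assoc, e₁]) e₂ (hxs r hx) hy
    have hcoc : pullback.fst π π ≫ v.1 = pullback.snd π π ≫ v.1 := by
      have e : pullback.fst π π ≫ π = pullback.snd π π ≫ π := pullback.condition
      have hr : ∀ k : pullback π π ⟶ pullback (s ≫ t) q, k ≫ π = pullback.fst π π ≫ π →
          (k ≫ y₀) ≫ q = ((pullback.fst π π ≫ π) ≫ s) ≫ t := fun k hk => by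
        rw [← hk, Category.assoc k, hy₀]; simp only [Category.assoc]
      rw [← hnat (pullback.fst π π) _ _ rfl rfl (hr _ rfl), ← hnat (pullback.snd π π) _ _ e.symm rfl (hr _ e.symm)]
      exact valeq (j := i) _ _ _ _ (hxs _ hx) (hr _ rfl) (hr _ e.symm)
    obtain ⟨c, ⟨hc₁, hc₂⟩, -⟩ := existsUnique_descend_lift π (MorphismProperty.pullback_fst _ _ hq) x
      (D.obj i).hom v.1 v.2 hcoc
    refine ⟨⟨c, hc₁⟩, fun T'' r y hy => ?_⟩
    let l := pullback.lift r y ((Category.assoc _ _ _).symm.trans hy.symm)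
    rw [hnat l r y (pullback.lift_fst _ _ _) (pullback.lift_snd _ _ _) hy, ← hc₂, ← Category.assoc]
    exact (congrArg (· ≫ c) (pullback.lift_fst _ _ _)).symm
  choose v hv using ex
  let a : Elt D t := Elt.ofFun (fun T' i x s hx => v T' i x s hx)
    (fun T' T'' k i x s hx x' s' e1 e2 hx' => by
      subst e1 e2
      refine ext_cover hq (t := t) (k ≫ s) ((v _ i _ _ hx').2.trans
        (((Category.assoc _ _ _).trans (congrArg (k ≫ ·) (v T' i x s hx).2)).symm)) fun T₃ r y hy => ?_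
      have hy2 : y ≫ q = ((r ≫ k) ≫ s) ≫ t := by rw [hy, Category.assoc r k s]
      rw [hv _ _ _ _ hx' r y hy, ← Category.assoc r k (v T' i x s hx).1, hv _ _ _ _ hx (r ≫ k) y hy2]
      exact ((valnat (𝟙 T₃) _ _ _ (hxs (r ≫ k) hx) hy2 (r ≫ k ≫ x) (r ≫ k ≫ s) y
        ((Category.id_comp _).trans (Category.assoc _ _ _)) ((Category.id_comp _).trans (Category.assoc _ _ _))
        (Category.id_comp _) (hxs r hx') hy)).trans (Category.id_comp _))
    (fun T' i j x x' s hx hx' => by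
      refine ext_cover hq (t := t) s ((D.φ x x' _ _).2.trans (v _ j _ _ hx').2.symm) fun T₃ r y hy => ?_
      have e := (hxs r hx).trans (hxs r hx').symm
      rw [hv _ _ _ _ hx' r y hy,
        ← D.φ_natural r x x' _ (r ≫ x) (r ≫ x') rfl rfl e (v T' i x s hx)
          (val (i := i) (r ≫ x) (r ≫ s) y (hxs r hx) hy) (hv _ _ _ _ hx r y hy).symm]
      exact congrArg Subtype.val ((R.n i).φ_app (i := i) (j := j) (r ≫ x) (r ≫ x') _ _ _ _))
  refine ⟨a, Elt.ext' fun T' i y s hy => ?_⟩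
  rw [ptsDD_app]
  refine congrArg Subtype.val ((R.equiv (j := i) y).injective ?_)
  rw [Equiv.apply_symm_apply]
  refine Elt.ext' fun T'' j x r hx => ?_
  have e1 : x ≫ g = (r ≫ s) ≫ t := by rw [Category.assoc, ← hy]; exact hx
  have e2 : x ≫ g = (r ≫ (b.app (i := i) y s hy).1) ≫ R.ν i ≫ q := by
    rw [Category.assoc, ← Category.assoc (b.app (i := i) y s hy).1,
      show (b.app (i := i) y s hy).1 ≫ R.ν i = y from (b.app y s hy).2]
    exact hx
  rw [Elt.res_app a s _ x r hx e1, R.equiv_app y _ x r hx e2, Elt.ofFun_app]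
  have hyr : (r ≫ y) ≫ q = (r ≫ s) ≫ t := by rw [Category.assoc, hy, Category.assoc]
  have h0 : (r ≫ y) ≫ q = (𝟙 T'' ≫ r ≫ s) ≫ t := by rw [Category.id_comp]; exact hyr
  refine ((Category.id_comp _).symm.trans (hv _ j x (r ≫ s) e1 (𝟙 T'') (r ≫ y) h0)).trans ?_
  exact (R.n j).app_congr (Category.id_comp x)
    ((b.app_congr rfl (Category.id_comp _) _ hyr).trans (b.app_natural r y s hy hyr)) _ _

include hq in
/-- **Transfer**: a universal element of the datum of representing objects gives one of the datum. -/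
theorem exists_universal_of_dd {M : Scheme.{u}} {μ : M ⟶ S} {mE : Elt R.dd μ} (hm : IsUniversal mE) :
    ∃ m : Elt D μ, IsUniversal m := by
  obtain ⟨m, rfl⟩ := ptsDD_surjective R hq μ mE
  refine ⟨m, fun T t a => ?_⟩
  obtain ⟨j, hj, hu⟩ := hm t (ptsDD R a)
  have h1 := ptsDD_isRes R (m.isRes_res j hj.1)
  have h2 : a = m.res j hj.1 := ptsDD_injective R hq t (hj.eq.trans h1.eq.symm)
  exact ⟨j, h2 ▸ m.isRes_res j hj.1, fun j' hj' => hu j' (ptsDD_isRes R hj')⟩

end GrothLib.EtSubtr4
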