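import Groth.Agent.Lib.EtSubtr4.QC
import Groth.Agent.Lib.GenMap.OpenMap

/-!
# Effectivity along universally open surjections
-/

set_option autoImplicit false
set_option backward.isDefEq.respectTransparency false
set_option backward.isDefEq.respectTransparency.types false
set_option linter.style.haveILetI false

universe u

open CategoryTheory CategoryTheory.Limits AlgebraicGeometry Desc

noncomputable section

namespace GrothLib.EtSubtr4

open GrothLib.SchEffective GrothLib.DDPull GrothLib.EtDescent21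

/-- Universally open surjections are universally S-subtrusive. -/
theorem univSSubtrusive_of_universallyOpen {X Y : Scheme.{u}} (h : X ⟶ Y) [UniversallyOpen h] [Surjective h] :
    Subtr.UnivSSubtrusive h := fun _ _ _ _ h' hp => by
  haveI : UniversallyOpen h' := MorphismProperty.of_isPullback hp.flip ‹UniversallyOpen h›
  haveI : Surjective h' := MorphismProperty.of_isPullback hp.flip ‹Surjective h›
  intro y y' hy
  obtain ⟨x, hx⟩ := h'.surjective y
  obtain ⟨x', hx', hxy'⟩ := GenMap.generalizingMap_of_isOpenMap h' h'.isOpenMap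
    (show y' ⤳ h' x by rw [hx]; exact hy)
  exact ⟨x, x', hx', hx, hxy'⟩

/-- The case of a quasi-compact quasi-separated source over an affine base. -/
theorem etRep_id_of_universallyOpen_qcqs {S X : Scheme.{u}} [IsAffine S] [CompactSpace X] [QuasiSeparatedSpace X]
    {g : X ⟶ S} [UniversallyOpen g] [Surjective g]
    (D : SchDDFam (fam g)) [Etale (obj₀ D).hom] [IsSeparated (obj₀ D).hom] : EtRep D (𝟙 S) := by
  haveI : QuasiCompact g := quasiCompact_of_compactSpace g
  haveI : QuasiSeparated g := inferInstance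
  have hsub := univSSubtrusive_of_universallyOpen g
  have hu := GrothLib.SubtrLim.univSubmersive_of_univSSubtrusive hsub
  let E : SchDD g := (SchDDFam.toSchDD g).obj D
  haveI : IsSeparated E.obj.hom := ‹IsSeparated (obj₀ D).hom›
  haveI : Etale E.obj.hom := ‹Etale (obj₀ D).hom›
  haveI : QuasiSeparatedSpace E.obj.left := quasiSeparatedSpace_of_quasiSeparated E.obj.hom
  haveI : UniversallyOpen (relSrc E) := MorphismProperty.pullback_fst _ _ ‹UniversallyOpen g›
  haveI : QuasiCompact (relTgt E) := relTgt_mem E @QuasiCompact ‹QuasiCompact g›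
  have hex : ∀ d : E.obj.left, ∃ W : E.obj.left.Opens, d ∈ W ∧ IsSaturated E (W : Set E.obj.left) ∧
      IsCompact (W : Set E.obj.left) := fun d => by
    obtain ⟨_, ⟨A, hA, rfl⟩, hd, -⟩ :=
      E.obj.left.isBasis_affineOpens.exists_subset_of_mem_open (Set.mem_univ d) isOpen_univ
    exact ⟨⟨satHull E (A : Set E.obj.left), (relSrc E).isOpenMap _ (A.2.preimage (relTgt E).continuous)⟩,
      subset_satHull E _ hd, isSaturated_satHull E _,
      ((relTgt E).isCompact_preimage hA.isCompact).image (relSrc E).continuous⟩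
  choose W hdW hW hWc using hex
  choose E' j hj hr _ _ using fun d => exists_restrict E (W d) (hW d)
  refine etRep_id_of_openSubData g hu (fun d : E.obj.left => (SchDDFam.ofSchDD g).obj (E' d))
    (fun d => (SchDDFam.ofSchDD g).map (j d)) hj (fun v => ⟨v, ?_⟩) fun d => ?_
  · change v ∈ Set.range (j v).hom.left
    rw [hr]; exact hdW v
  haveI : IsOpenImmersion (j d).hom.left := hj d
  have hw : (E' d).obj.hom = (j d).hom.left ≫ E.obj.hom := (Over.w (j d).hom).symm
  let F := (SchDDFam.ofSchDD g).obj (E' d)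
  haveI : Etale (obj₀ F).hom := show Etale (E' d).obj.hom by rw [hw]; infer_instance
  haveI : IsSeparated (obj₀ F).hom := show IsSeparated (E' d).obj.hom by rw [hw]; infer_instance
  haveI : CompactSpace (E' d).obj.left := by
    rw [← isCompact_univ_iff, (j d).hom.left.isOpenEmbedding.isEmbedding.isCompact_iff, Set.image_univ, hr]
    exact hWc d
  haveI : QuasiCompact (obj₀ F).hom := show QuasiCompact (E' d).obj.hom from quasiCompact_of_compactSpace _
  obtain ⟨M, μ, m, h₁, hm⟩ := (effEt_iff hu).1 ((effEt_iff_etRep_id hu).2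
    (etRep_id_of_qcqs hsub F))
  exact ⟨M, μ, m, h₁, hm⟩

/-- Separated étale data are representable along universally open surjections of quasi-separated schemes. -/
theorem etRep_id_of_universallyOpen {S X : Scheme.{u}} [QuasiSeparatedSpace X] {g : X ⟶ S}
    [UniversallyOpen g] [Surjective g]
    (D : SchDDFam (fam g)) [Etale (obj₀ D).hom] [IsSeparated (obj₀ D).hom] : EtRep D (𝟙 S) := by
  refine etRep_of_openCover (fun W : {W : S.Opens // IsAffineOpen W} => W.1)
    (TopologicalSpace.IsOpenCover.mk (eq_top_iff.2 fun s _ => ?_)) fun W => ?_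
  · obtain ⟨_, ⟨W, hW, rfl⟩, hsW, -⟩ := S.isBasis_affineOpens.exists_subset_of_mem_open (Set.mem_univ s) isOpen_univ
    exact TopologicalSpace.Opens.mem_iSup.2 ⟨⟨W, hW⟩, hsW⟩
  rw [Category.comp_id]
  haveI : IsAffine (W.1 : Scheme.{u}) := W.2
  haveI : CompactSpace (W.1 : Scheme.{u}) := isCompact_iff_compactSpace.mp W.2.isCompact
  have sq : IsPullback (pullback.fst g W.1.ι) (pullback.snd g W.1.ι) g W.1.ι := IsPullback.of_hasPullback _ _
  haveI : Etale (obj₀ (pullCart sq D)).hom :=
    inferInstanceAs (Etale (pullback.snd (obj₀ D).hom (pullback.fst g W.1.ι)))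
  haveI : IsSeparated (obj₀ (pullCart sq D)).hom :=
    inferInstanceAs (IsSeparated (pullback.snd (obj₀ D).hom (pullback.fst g W.1.ι)))
  haveI : QuasiSeparatedSpace ↥(pullback g W.1.ι) :=
    quasiSeparatedSpace_of_quasiSeparated (pullback.fst g W.1.ι)
  let g₁ := pullback.snd g W.1.ι
  haveI : UniversallyOpen g₁ := MorphismProperty.pullback_snd _ _ ‹UniversallyOpen g›
  haveI : Surjective g₁ := MorphismProperty.pullback_snd (P := @Surjective) _ _ ‹Surjective g›
  refine (etRep_trans_iff sq (Category.id_comp _)).1 ?_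
  have hX₀ : ∃ X₀ : (pullback g W.1.ι).Opens, IsCompact (X₀ : Set ↥(pullback g W.1.ι)) ∧
      g₁ '' (X₀ : Set ↥(pullback g W.1.ι)) = Set.univ := by
    obtain ⟨t, ht⟩ := isCompact_univ.elim_finite_subcover
      (fun U : (pullback g W.1.ι).affineOpens => g₁ '' (U.1 : Set ↥(pullback g W.1.ι)))
      (fun U => g₁.isOpenMap _ U.1.2) fun z _ => by
        obtain ⟨x, rfl⟩ := g₁.surjective z
        obtain ⟨U, hU, hx, -⟩ := exists_isAffineOpen_mem_and_subset
          (x := x) (U := (⊤ : (pullback g W.1.ι).Opens)) trivial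
        exact Set.mem_iUnion.2 ⟨⟨U, hU⟩, x, hx, rfl⟩
    refine ⟨⟨⋃ U ∈ t, (U.1 : Set ↥(pullback g W.1.ι)), isOpen_biUnion fun U _ => U.1.2⟩,
      t.isCompact_biUnion fun U _ => U.2.isCompact, Set.univ_subset_iff.1 fun z hz => ?_⟩
    obtain ⟨U, hU, x, hx, rfl⟩ := Set.mem_iUnion₂.1 (ht hz)
    exact ⟨x, Set.mem_iUnion₂.2 ⟨U, hU, hx⟩, rfl⟩
  obtain ⟨X₀, hc, hs⟩ := hX₀
  haveI : CompactSpace (X₀ : Scheme.{u}) := isCompact_iff_compactSpace.mp hc
  haveI : QuasiSeparatedSpace (X₀ : Scheme.{u}) := quasiSeparatedSpace_of_quasiSeparated X₀.ι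
  haveI : Surjective (X₀.ι ≫ g₁) := ⟨fun z => by
    obtain ⟨x, hx, rfl⟩ := hs.ge (Set.mem_univ z)
    exact ⟨⟨x, hx⟩, rfl⟩⟩
  have hw : X₀.ι ≫ g₁ = X₀.ι ≫ g₁ := rfl
  let D' := refineDD hw (pullCart sq D)
  haveI : Etale (obj₀ D').hom := inferInstanceAs (Etale (pullback.snd (obj₀ (pullCart sq D)).hom X₀.ι))
  haveI : IsSeparated (obj₀ D').hom := inferInstanceAs (IsSeparated (pullback.snd (obj₀ (pullCart sq D)).hom X₀.ι))
  exact (etRep_refine_iff hw (univSubmersive_of_universallyOpen _)).1 (etRep_id_of_universallyOpen_qcqs D')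

end GrothLib.EtSubtr4
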